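import Groth.Agent.FRig.Sec
import Groth.Agent.Frg7.Completion

/-!
# Left exactness and exactness of completed sections
-/

set_option backward.isDefEq.respectTransparency false
set_option backward.isDefEq.respectTransparency.types false

universe u

open CategoryTheory CategoryTheory.Limits AlgebraicGeometry TopologicalSpace Opposite

noncomputable section

namespace Groth.Agent.FRig

open FModLib

variable {X : Scheme.{u}} {𝒥 : X.IdealSheafData} {𝔛 : FSch.Sys.{u}} (h : 𝔛.IsFormal) (D : CData 𝒥 𝔛)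

/-- The map on completed modules. -/
abbrev cMap {F G : X.Modules} (φ : F ⟶ G) : (cMod D F).realMod h ⟶ (cMod D G).realMod h :=
  FSch.ModSys.realModMap h (cModMap D φ)

theorem pr_down {F : X.Modules} (W : X.Opens) (y : Sec h (cMod D F) (cU D W)) (n j : ℕ) (b : Γ(F, W))
    (hb : pr h _ (n + j) _ y = uM h D F (n + j) W b) : pr h _ n _ y = uM h D F n W b := by
  induction j with
  | zero => exact hb
  | succ j ih =>
    refine ih ?_
    rw [← pr_tr h _ (n + j)]
    exact (congrArg (tr h _ (n + j) _) hb).trans (tr_uM h D F (n + j) W b)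

theorem pr_cMap {F G : X.Modules} (φ : F ⟶ G) (W : X.Opens) (y : Sec h (cMod D F) (cU D W)) (n : ℕ)
    (b : Γ(F, W)) (hb : pr h _ n _ y = uM h D F n W b) :
    pr h _ n _ ((cMap h D φ).val.app (op (cU D W)) y) = uM h D G n W (φ.app W b) := by
  refine (congrArg (fun f : (cMod D F).realMod h ⟶ (FSch.levelMor 𝔛 h n).push.obj ((cMod D G).F n) =>
    f.val.app (op (cU D W)) y)
      (FSch.realLimMap_realProj 𝔛 h (cModMap D φ).app (FSch.ModSys.Hom.toPush_comm _) n)).trans ?_
  refine (congrArg (((Scheme.Modules.pullback (D.p n)).map φ).app _) hb).trans ?_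
  exact ExistEasy.pullSec_natural _ φ _ b

variable {F G H : X.Modules} (φ : F ⟶ G) (ψ : G ⟶ H) (hF : Coh.IsQCoh F) (hG : Coh.IsQCoh G)
  (hH : Coh.IsQCoh H) {W : X.Opens} (hW : IsAffineOpen W)

include hF hG hW in
theorem cMap_injective (hi : Function.Injective (φ.app W)) [Module.Finite Γ(X, W) Γ(G, W)]
    (hAR : Frg7.HasAR (𝒥.ideal ⟨W, hW⟩)) (y : Sec h (cMod D F) (cU D W))
    (hy : (cMap h D φ).val.app (op (cU D W)) y = 0) : y = 0 := by
  let f : Γ(F, W) →ₗ[Γ(X, W)] Γ(G, W) :=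
    { toFun := φ.app W, map_add' := map_add (φ.app W).hom, map_smul' := fun r x => φ.app_smul r x }
  obtain ⟨k, hk⟩ := hAR Γ(G, W) (LinearMap.range f)
  refine ext_pr h _ _ fun n => ?_
  obtain ⟨x, hx⟩ := uM_surjective h D hF (n + k) hW (pr h _ (n + k) _ y)
  have h1 : uM h D G (n + k) W (f x) = 0 :=
    (pr_cMap h D φ W y (n + k) x hx.symm).symm.trans ((congrArg _ hy).trans (map_zero _))
  rw [uM_eq_zero_iff h D hG _ hW, show n + k + 1 = (n + 1) + k by omega] at h1
  have h2 := hk (n + 1) ⟨h1, LinearMap.mem_range_self f x⟩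
  rw [Frg7.map_smul_top] at h2
  obtain ⟨z, hz, hzx⟩ := h2
  rw [map_zero, pr_down h D W y n k x hx.symm, ← (uM_eq_zero_iff h D hF n hW z).mpr hz]
  rw [show z = x from hi hzx]

include hF hG hH hW in
theorem cMap_exact (hi : Function.Injective (φ.app W)) (hs : Function.Surjective (ψ.app W))
    (he : ∀ x, ψ.app W x = 0 → ∃ w, φ.app W w = x) [Module.Finite Γ(X, W) Γ(G, W)]
    (hAR : Frg7.HasAR (𝒥.ideal ⟨W, hW⟩)) (y : Sec h (cMod D G) (cU D W))
    (hy : (cMap h D ψ).val.app (op (cU D W)) y = 0) :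
    ∃ x : Sec h (cMod D F) (cU D W), (cMap h D φ).val.app (op (cU D W)) x = y := by
  let f : Γ(F, W) →ₗ[Γ(X, W)] Γ(G, W) :=
    { toFun := φ.app W, map_add' := map_add (φ.app W).hom, map_smul' := fun r x => φ.app_smul r x }
  let g : Γ(G, W) →ₗ[Γ(X, W)] Γ(H, W) :=
    { toFun := ψ.app W, map_add' := map_add (ψ.app W).hom, map_smul' := fun r x => ψ.app_smul r x }
  obtain ⟨k, hk⟩ := hAR Γ(G, W) (LinearMap.range f)
  let U : ∀ n, Γ(G, W) →+ Γ((cMod D G).F n, 𝔛.lvU h n (cU D W)) := fun n =>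
    AddMonoidHom.mk' (uM h D G n W) (uM_add h D G n W)
  let V : ∀ n, Γ(F, W) →+ Γ((cMod D F).F n, 𝔛.lvU h n (cU D W)) := fun n =>
    AddMonoidHom.mk' (uM h D F n W) (uM_add h D F n W)
  have hlift : ∀ n, ∃ w : Γ(F, W), pr h _ n _ y = U n (f w) := by
    intro n
    obtain ⟨b, hb⟩ := uM_surjective h D hG n hW (pr h _ n _ y)
    have h1 : uM h D H n W (g b) = 0 := (pr_cMap h D ψ W y n b hb.symm).symm.trans ((congrArg _ hy).trans (map_zero _))
    rw [uM_eq_zero_iff h D hH _ hW] at h1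
    have h2 : g b ∈ 𝒥.ideal ⟨W, hW⟩ ^ (n + 1) • LinearMap.range g := by
      rwa [(LinearMap.range_eq_top (f := g)).mpr hs]
    rw [Frg7.map_smul_top] at h2
    obtain ⟨d, hd, hd'⟩ := h2
    obtain ⟨w, hw⟩ := he (b - d) (show g (b - d) = 0 by rw [map_sub, hd', sub_self])
    refine ⟨w, ?_⟩
    have h3 : U n d = 0 := (uM_eq_zero_iff h D hG n hW d).mpr hd
    rw [show f w = b - d from hw, map_sub, h3, sub_zero]
    exact hb.symm
  choose w hw using hlift
  have hz : ∀ n, tr h _ n (cU D W) (V (n + 1) (w (n + 1 + k))) = V n (w (n + k)) := by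
    intro n
    refine (tr_uM h D F n W _).trans (sub_eq_zero.mp ?_)
    show V n (w (n + 1 + k)) - V n (w (n + k)) = 0
    rw [← map_sub]
    refine (uM_eq_zero_iff h D hF n hW _).mpr ?_
    have h4 : U (n + k) (f (w (n + k + 1) - w (n + k))) = 0 := by
      rw [map_sub, map_sub, sub_eq_zero]
      refine Eq.trans ?_ (hw (n + k))
      exact (pr_down h D W y (n + k) 1 _ (hw (n + k + 1))).symm
    have h5 := (uM_eq_zero_iff h D hG (n + k) hW _).mp h4
    rw [show n + k + 1 = n + 1 + k by omega] at h5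
    have h6 := hk (n + 1) ⟨h5, LinearMap.mem_range_self f _⟩
    rw [Frg7.map_smul_top] at h6
    obtain ⟨z, hz, hzx⟩ := h6
    exact hi hzx ▸ hz
  obtain ⟨x, hx⟩ := exists_pr h _ _ (fun n => V n (w (n + k))) hz
  refine ⟨x, ext_pr h _ _ fun n => (pr_cMap h D φ W x n (w (n + k)) (hx n)).trans ?_⟩
  exact (pr_down h D W y n k _ (hw (n + k))).symm

end Groth.Agent.FRig
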