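import Groth.Agent.FRig.Sec
import Groth.Agent.FRig.Exact
import Groth.Agent.Frg7.Trunc
import Groth.Agent.FModLib.Abel
import Groth.Agent.QCoh.Tilde
import Groth.Agent.QCoh.SpecFT
import Groth.Agent.QCohRep7.Homology

/-!
# The formal spectrum of an algebra topologically of finite type over a base ring

Full faithfulness and exactness of `M ↦ M^Δ` on finite modules.
-/

set_option backward.isDefEq.respectTransparency false
set_option backward.isDefEq.respectTransparency.types false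
set_option linter.style.haveILetI false

universe u

open CategoryTheory CategoryTheory.Limits AlgebraicGeometry TopologicalSpace Opposite

noncomputable section

namespace Groth.Agent.FRig

open FModLib FComplLib

section Locality

variable {T : TopCat.{u}} {O : TopCat.Sheaf CommRingCat.{u} T}

/-- Morphisms agreeing on a basis are equal. -/
theorem hom_ext_basis {F G : ModSite.Mod O} {B : Set (Opens T)} (hB : Opens.IsBasis B) (α β : F ⟶ G)
    (h : ∀ V ∈ B, ∀ x : ModSite.sect F V, α.val.app (op V) x = β.val.app (op V) x) : α = β := by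
  apply SheafOfModules.hom_ext
  refine PresheafOfModules.hom_ext fun U => ModuleCat.hom_ext (LinearMap.ext fun z => ?_)
  refine eq_of_locally (F := G) fun p hp => ?_
  obtain ⟨V, hV, hpV, hVU⟩ := Opens.isBasis_iff_nbhd.1 hB hp
  exact ⟨V, hVU, hpV, (mapp_res F α hVU z).symm.trans ((h V hV _).trans (mapp_res F β hVU z))⟩

theorem mono_of_basis {F G : ModSite.Mod O} {B : Set (Opens T)} (hB : Opens.IsBasis B) (α : F ⟶ G)
    (h : ∀ V ∈ B, ∀ x : ModSite.sect F V, α.val.app (op V) x = 0 → x = 0) : Mono α := by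
  refine Preadditive.mono_of_cancel_zero _ fun {P} φ hφ => hom_ext_basis hB φ 0 fun V hV z => ?_
  exact h V hV _ (congrArg (fun f : P ⟶ G => f.val.app (op V) z) hφ)

theorem epi_of_basis {F G : ModSite.Mod O} {B : Set (Opens T)} (hB : Opens.IsBasis B) (α : F ⟶ G)
    (h : ∀ V ∈ B, ∀ y : ModSite.sect G V, ∃ x, α.val.app (op V) x = y) : Epi α := by
  refine FModLib.epi_of_locally _ fun W s => ?_
  refine ⟨{ arrows := fun W' _ => ∃ V ∈ B, W' ≤ V ∧ V ≤ W
            downward_closed := fun ⟨V, hV, h1, h2⟩ a => ⟨V, hV, a.le.trans h1, h2⟩ }, ?_, ?_⟩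
  · intro x hx
    obtain ⟨V, hV, hxV, hVW⟩ := Opens.isBasis_iff_nbhd.1 hB (show x ∈ W from hx)
    exact ⟨V, homOfLE hVW, ⟨V, hV, le_rfl, hVW⟩, hxV⟩
  · rintro W' a ⟨V, hV, h1, h2⟩
    obtain ⟨t, ht⟩ := h V hV (mres G h2 s)
    refine ⟨mres F h1 t, ?_⟩
    refine (mapp_res F α h1 t).trans ((congrArg (mres G h1) ht).trans ?_)
    exact mres_mres (F := G) h2 h1 s

theorem exact_of_basis {B : Set (Opens T)} (hB : Opens.IsBasis B) (S : ShortComplex (ModSite.Mod O))
    (h : ∀ V ∈ B, ∀ y : ModSite.sect S.X₂ V, S.g.val.app (op V) y = 0 → ∃ x, S.f.val.app (op V) x = y) :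
    S.Exact := by
  rw [S.exact_iff_epi_kernel_lift]
  refine epi_of_basis hB _ fun V hV z => ?_
  obtain ⟨x, hx⟩ := h V hV ((kernel.ι S.g).val.app (op V) z)
    (congrArg (fun f : kernel S.g ⟶ S.X₃ => f.val.app (op V) z) (kernel.condition S.g))
  refine ⟨x, sect_injective_of_mono (kernel.ι S.g) V ?_⟩
  exact (congrArg (fun f : S.X₁ ⟶ S.X₂ => f.val.app (op V) x) (kernel.lift_ι S.g S.f S.zero)).trans hx

/-- Sections are left exact. -/
theorem sect_exact_of_mono {S : ShortComplex (ModSite.Mod O)} (hS : S.Exact) [Mono S.f] (V : Opens T)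
    (y : ModSite.sect S.X₂ V) (hy : S.g.val.app (op V) y = 0) : ∃ x, S.f.val.app (op V) x = y := by
  obtain ⟨z, hz⟩ := FModLib.exists_kernel_lift S.g V y hy
  haveI := S.exact_iff_epi_kernel_lift.1 hS
  let l := kernel.lift S.g S.f S.zero
  have hl : l ≫ kernel.ι S.g = S.f := kernel.lift_ι _ _ _
  haveI : Mono l := mono_of_mono_fac hl
  haveI : IsIso l := isIso_of_mono_of_epi l
  refine ⟨(inv l).val.app (op V) z, ?_⟩
  refine Eq.trans ?_ hz
  exact congrArg (fun f : kernel S.g ⟶ S.X₂ => f.val.app (op V) z) ((IsIso.inv_comp_eq l).mpr hl.symm)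

end Locality

variable {A : Type u} [CommRing A] (J : Ideal A)

/-- The hypotheses on the ideal used below. -/
structure Good : Prop where
  fg : J.FG
  complete : ∀ (M : Type u) [AddCommGroup M] [Module A M], Module.Finite A M → IsAdicComplete J M
  hasAR : ∀ (C : Type u) [CommRing C] [Algebra A C], Algebra.FiniteType A C →
    Frg7.HasAR (J.map (algebraMap A C))

theorem good_of_topFiniteType {R : Type u} [CommRing R] {I : Ideal R} (hR : AdicRing.IsBase R I)
    [Algebra R A] (hA : AdicRing.TopFiniteType R I A) : Good (I.map (algebraMap R A)) where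
  fg := (Frg7.IsBase.fg hR).map _
  complete M _ _ hM := by
    letI : Module R M := Module.compHom M (algebraMap R A)
    haveI : IsScalarTower R A M := IsScalarTower.of_algebraMap_smul fun _ _ => rfl
    exact (IsAdicComplete.map_algebraMap_iff I M).mpr (Frg7.isAdicComplete hR hA M)
  hasAR C _ _ hC := by
    letI : Algebra R C := ((algebraMap A C).comp (algebraMap R A)).toAlgebra
    haveI : IsScalarTower R A C := IsScalarTower.of_algebraMap_eq fun _ => rfl
    have := (Frg7.nice_of_finiteType hR hA C).hasAR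
    rwa [IsScalarTower.algebraMap_eq R A C, ← Ideal.map_map] at this

local notation "XA" => Spec (CommRingCat.of A)
local notation "𝒥A" => FSch.idealSpec A J

/-- The scalars on an open of the spectrum. -/
def ρ (W : (XA).Opens) : A →+* Γ(XA, W) :=
  ((XA).presheaf.map (homOfLE (le_top : W ≤ ⊤)).op).hom.comp (Scheme.ΓSpecIso (CommRingCat.of A)).inv.hom

theorem ideal_eq {W : (XA).Opens} (hW : IsAffineOpen W) :
    (𝒥A).ideal ⟨W, hW⟩ = J.map (ρ W) := by
  rw [ρ, ← Ideal.map_map, ← AffData.idealSpec_ideal_top]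
  exact ((𝒥A).map_ideal (U := ⟨W, hW⟩) (V := ⟨⊤, isAffineOpen_top _⟩) (le_top (a := W))).symm

theorem fg_ideal (hJ : J.FG) {W : (XA).Opens} (hW : IsAffineOpen W) : ((𝒥A).ideal ⟨W, hW⟩).FG := by
  rw [ideal_eq J hW]
  exact hJ.map _

theorem finiteType_ρ {W : (XA).Opens} (hW : IsAffineOpen W) : (ρ (A := A) W).FiniteType := by
  have h1 : ((XA).presheaf.map (homOfLE (le_top : W ≤ ⊤)).op).hom.FiniteType := by
    have := Scheme.Hom.finiteType_appLE (𝟙 (XA)) (isAffineOpen_top _) hW le_top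
    rwa [Scheme.Hom.appLE, Scheme.Hom.id_app, Category.id_comp] at this
  exact h1.comp (RingHom.FiniteType.of_surjective _
    (ConcreteCategory.bijective_of_isIso (Scheme.ΓSpecIso (CommRingCat.of A)).inv).2)

theorem hasAR_ideal (hJ : Good J) {W : (XA).Opens} (hW : IsAffineOpen W) :
    Frg7.HasAR ((𝒥A).ideal ⟨W, hW⟩) := by
  letI : Algebra A Γ(XA, W) := (ρ W).toAlgebra
  rw [ideal_eq J hW]
  exact hJ.hasAR Γ(XA, W) (finiteType_ρ hW)

/-- Basic opens. -/
abbrev bas (s : Γ(XA, ⊤)) : (XA).Opens := (XA).basicOpen s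

theorem isAffineOpen_bas (s : Γ(XA, ⊤)) : IsAffineOpen (bas s) := (isAffineOpen_top (XA)).basicOpen s

variable {J} {𝔛 : FSch.Sys.{u}} (h : 𝔛.IsFormal) (D : CData (FSch.idealSpec A J) 𝔛)

/-- The traces of the basic opens. -/
def basSet : Set (𝔛.X 0).Opens :=
  Set.range fun s : Γ(XA, ⊤) => cU D (bas s)

theorem isBasis_basSet : Opens.IsBasis (basSet D) := by
  refine Opens.isBasis_iff_nbhd.mpr fun {U x} hx => ?_
  have := D.cl 0
  obtain ⟨V, hV, hVU⟩ := (D.p 0).isClosedEmbedding.isInducing.isOpen_iff.mp U.2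
  have hxV : (D.p 0) x ∈ (⟨V, hV⟩ : (XA).Opens) := by
    have : x ∈ (D.p 0) ⁻¹' V := by rw [hVU]; exact hx
    exact this
  obtain ⟨s, hs, hxs⟩ := (isAffineOpen_top (XA)).exists_basicOpen_le (V := ⟨V, hV⟩) ⟨_, hxV⟩ trivial
  refine ⟨_, ⟨s, rfl⟩, hxs, fun y hy => ?_⟩
  have : y ∈ (D.p 0) ⁻¹' V := hs hy
  rw [hVU] at this
  exact this

/-- The restriction of an element of a module. -/
def θW (M : ModuleCat.{u} A) (W : (XA).Opens) (x : M) : Γ(tilde (R := CommRingCat.of A) M, W) :=
  (tilde (R := CommRingCat.of A) M).presheaf.map (homOfLE (le_top : W ≤ ⊤)).op (θ M x)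

theorem θW_gen (M : ModuleCat.{u} A) {ι : Type u} [Fintype ι] (t : ι → M)
    (ht : ∀ x : M, ∃ c : ι → A, ∑ i, c i • t i = x) (s : Γ(XA, ⊤)) (y : Γ(tilde (R := CommRingCat.of A) M, bas s)) :
    ∃ c : ι → Γ(XA, bas s), ∑ i, c i • θW M (bas s) (t i) = y := by
  refine gen_basic (isQCoh_tilde M) (isAffineOpen_top _) s rfl le_top (fun i => θ M (t i)) (fun z => ?_) y
  obtain ⟨x, rfl⟩ := (bijective_θ M).2 z
  obtain ⟨c, rfl⟩ := ht x
  refine ⟨fun i => (Scheme.ΓSpecIso (CommRingCat.of A)).inv (c i), ?_⟩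
  rw [map_sum]
  exact Finset.sum_congr rfl fun i _ => (θ_smul M (c i) (t i)).symm

theorem θW_natural {M N : ModuleCat.{u} A} (u : M ⟶ N) (W : (XA).Opens) (x : M) :
    ((tilde.functor (CommRingCat.of A)).map u).app W (θW M W x) = θW N W (u.hom x) :=
  (QCoh.map_app_comm _ _ _).trans (congrArg _ (θ_naturality u x))

theorem finite_sect (M : ModuleCat.{u} A) [Module.Finite A M] {W : (XA).Opens} (hW : IsAffineOpen W) :
    Module.Finite Γ(XA, W) Γ(tilde (R := CommRingCat.of A) M, W) :=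
  QCoh.finite_of_isFT (isQCoh_tilde M)
    ((QCoh.isFT_tilde_iff (R := CommRingCat.of A) M).mpr (by assumption)) hW

theorem exists_gens (M : ModuleCat.{u} A) [Module.Finite A M] :
    ∃ (n : ℕ) (t : ULift.{u} (Fin n) → M), ∀ x : M, ∃ c : ULift.{u} (Fin n) → A, ∑ i, c i • t i = x := by
  obtain ⟨n, t, ht⟩ := Module.Finite.exists_fin (R := A) (M := M)
  refine ⟨n, fun i => t i.down, fun x => ?_⟩
  obtain ⟨c, rfl⟩ := (Submodule.mem_span_range_iff_exists_fun A).mp (ht.ge (Submodule.mem_top : x ∈ ⊤))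
  exact ⟨fun i => c i.down, Fintype.sum_equiv Equiv.ulift _ _ fun i => rfl⟩

/-- The module of formal sections of a module. -/
abbrev SecM (M : ModuleCat.{u} A) (W : (XA).Opens) : Type u :=
  Sec h (cMod D (tilde (R := CommRingCat.of A) M)) (cU D W)

/-- An element of a module as a formal global section. -/
def cTop (M : ModuleCat.{u} A) : M →+ SecM h D M ⊤ := (cM h D _ ⊤).comp (θ M)

theorem cTop_res (M : ModuleCat.{u} A) (W : (XA).Opens) (x : M) :
    ((cMod D (tilde (R := CommRingCat.of A) M)).realMod h).val.map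
        (homOfLE (fun _ _ => trivial : cU D W ≤ cU D ⊤)).op (cTop h D M x) =
      cM h D _ W (θW M W x) :=
  cM_res h D _ le_top _

theorem bijective_cTop (hJ : Good J) (M : ModuleCat.{u} A) [Module.Finite A M] :
    Function.Bijective (cTop h D M) := by
  suffices hb : Function.Bijective (cM h D (tilde (R := CommRingCat.of A) M) ⊤) by
    exact hb.comp (bijective_θ M)
  let F := tilde (R := CommRingCat.of A) M
  let C := Γ(XA, ⊤)
  have hW := isAffineOpen_top (XA)
  letI : Algebra A C := (ρ ⊤).toAlgebra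
  letI : Module A Γ(F, ⊤) := Module.compHom _ (ρ (A := A) ⊤)
  haveI : IsScalarTower A C Γ(F, ⊤) := IsScalarTower.of_algebraMap_smul fun _ _ => rfl
  have hρ : ρ (A := A) ⊤ = (Scheme.ΓSpecIso (CommRingCat.of A)).inv.hom := by
    rw [ρ, show (homOfLE (le_top : (⊤ : (XA).Opens) ≤ ⊤)).op = 𝟙 _ from rfl, CategoryTheory.Functor.map_id]
    rfl
  let e : M →ₗ[A] Γ(F, ⊤) :=
    { toFun := θ M
      map_add' := map_add _
      map_smul' := fun a x => (θ_smul M a x).trans
        (congrArg (fun r : C => r • θ M x) (RingHom.congr_fun hρ a).symm) }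
  haveI : Module.Finite A Γ(F, ⊤) := Module.Finite.of_surjective e (bijective_θ M).2
  haveI : IsAdicComplete ((𝒥A).ideal ⟨⊤, hW⟩) Γ(F, ⊤) := by
    rw [ideal_eq J hW]
    exact (IsAdicComplete.map_algebraMap_iff J Γ(F, ⊤)).mpr (hJ.complete _ inferInstance)
  obtain ⟨hS, hpr⟩ := sec_props h D (isQCoh_tilde M) hW (fg_ideal J hJ.fg hW)
  letI : Module C (SecM h D M ⊤) := Module.compHom _ (toRng h D ⊤)
  haveI := hS
  let Φ : Γ(F, ⊤) →ₗ[C] SecM h D M ⊤ :=
    { toFun := cM h D F ⊤
      map_add' := map_add _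
      map_smul' := cM_smul h D F ⊤ }
  refine ⟨fun x y hxy => ?_, ?_⟩
  · refine sub_eq_zero.mp (IsHausdorff.haus ‹IsAdicComplete ((𝒥A).ideal ⟨⊤, hW⟩) Γ(F, ⊤)›.1 _ fun n => ?_)
    rw [SModEq.zero]
    refine Submodule.smul_mono (Ideal.pow_le_pow_right (Nat.le_succ n)) le_rfl ?_
    rw [← uM_eq_zero_iff h D (isQCoh_tilde M) n hW, ← pr_cM h D, map_sub, hxy, sub_self, map_zero]
  · exact surjective_of_mkQ_comp_surjective (I := (𝒥A).ideal ⟨⊤, hW⟩) (f := Φ) fun q => by
      obtain ⟨z, rfl⟩ := Submodule.mkQ_surjective _ q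
      obtain ⟨x, hx⟩ := uM_surjective h D (isQCoh_tilde M) 0 hW (pr h _ 0 _ z)
      refine ⟨x, ((Submodule.Quotient.eq _).mpr ?_).symm⟩
      rw [← pow_one ((𝒥A).ideal ⟨⊤, hW⟩), ← (hpr 0).2, map_sub]
      exact sub_eq_zero.mpr ((pr_cM h D F 0 ⊤ x).trans hx).symm

/-- The map `u ↦ u^Δ`. -/
abbrev delta {M N : ModuleCat.{u} A} (u : M ⟶ N) :
    (cMod D (tilde (R := CommRingCat.of A) M)).realMod h ⟶
      (cMod D (tilde (R := CommRingCat.of A) N)).realMod h :=
  FSch.ModSys.realModMap h (cModMap D ((tilde.functor (CommRingCat.of A)).map u))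

theorem delta_cM {M N : ModuleCat.{u} A} (u : M ⟶ N) (W : (XA).Opens) (x : Γ(tilde (R := CommRingCat.of A) M, W)) :
    (delta h D u).val.app (op (cU D W)) (cM h D _ W x) =
      cM h D _ W (((tilde.functor (CommRingCat.of A)).map u).app W x) :=
  cM_natural h D _ _ W x

theorem delta_cTop {M N : ModuleCat.{u} A} (u : M ⟶ N) (x : M) :
    (delta h D u).val.app (op (cU D ⊤)) (cTop h D M x) = cTop h D N (u.hom x) :=
  (delta_cM h D u ⊤ _).trans (congrArg _ (θ_naturality u x))

/-- A morphism out of `M^Δ` is determined by the global elements. -/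
theorem hom_ext_cTop (hJ : Good J) {M : ModuleCat.{u} A} [Module.Finite A M]
    {G : FSch.ModF 𝔛 h}
    (α β : (cMod D (tilde (R := CommRingCat.of A) M)).realMod h ⟶ G)
    (e : ∀ x, α.val.app (op (cU D ⊤)) (cTop h D M x) = β.val.app (op (cU D ⊤)) (cTop h D M x)) : α = β := by
  obtain ⟨n, t, ht⟩ := exists_gens M
  refine hom_ext_basis (isBasis_basSet D) α β ?_
  rintro _ ⟨s, rfl⟩ z
  obtain ⟨c, rfl⟩ := cM_gen h D (isQCoh_tilde M) (isAffineOpen_bas s)
    (fg_ideal J hJ.fg (isAffineOpen_bas s)) _ (θW_gen M t ht s) z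
  refine (mapp_sum_smul _ α c _).trans (Eq.trans ?_ (mapp_sum_smul _ β c _).symm)
  refine Finset.sum_congr rfl fun i _ => congrArg (c i • ·) ?_
  rw [← cTop_res]
  refine (mapp_res _ α (fun _ _ => trivial : cU D (bas s) ≤ cU D ⊤) _).trans ?_
  exact ((congrArg (mres G _) (e (t i))).trans (mapp_res _ β (fun _ _ => trivial : cU D (bas s) ≤ cU D ⊤) _).symm)

theorem bijective_delta (hJ : Good J) (M N : ModuleCat.{u} A) [Module.Finite A M] [Module.Finite A N] :
    Function.Bijective (fun u : M ⟶ N => delta h D u) := by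
  refine ⟨fun u v e => ModuleCat.hom_ext (LinearMap.ext fun x => (bijective_cTop h D hJ N).1 ?_), fun Φ => ?_⟩
  · rw [← delta_cTop h D u, ← delta_cTop h D v]
    exact congrArg (fun f : (cMod D (tilde (R := CommRingCat.of A) M)).realMod h ⟶
      (cMod D (tilde (R := CommRingCat.of A) N)).realMod h => f.val.app (op (cU D ⊤)) (cTop h D M x)) e
  · let Φt := fun x => Φ.val.app (op (cU D ⊤)) (cTop h D M x)
    choose g hg using fun x => (bijective_cTop h D hJ N).2 (Φt x)
    have hadd : ∀ x y, g (x + y) = g x + g y := fun x y => (bijective_cTop h D hJ N).1 (by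
      rw [map_add, hg, hg, hg]
      show Φ.val.app _ (cTop h D M (x + y)) = _
      rw [map_add]
      exact map_add (Φ.val.app _).hom _ _)
    have hcs : ∀ (L : ModuleCat.{u} A) (a : A) (x : L), cTop h D L (a • x) =
        toRng h D ⊤ ((Scheme.ΓSpecIso (CommRingCat.of A)).inv a) • cTop h D L x := fun L a x =>
      (congrArg (cM h D _ ⊤) (θ_smul L a x)).trans (cM_smul h D _ ⊤ _ _)
    have hsmul : ∀ (a : A) x, g (a • x) = a • g x := fun a x => (bijective_cTop h D hJ N).1 (by
      rw [hg, hcs N, hg]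
      show Φ.val.app _ (cTop h D M (a • x)) = _
      rw [hcs M]
      exact map_smul (Φ.val.app _).hom _ _)
    refine ⟨mkModuleHom M N g hadd hsmul, hom_ext_cTop h D hJ _ Φ fun x => ?_⟩
    exact (delta_cTop h D _ x).trans (hg x)

theorem delta_comp {M N P : ModuleCat.{u} A} (u : M ⟶ N) (v : N ⟶ P) (hJ : Good J) [Module.Finite A M] :
    delta h D (u ≫ v) = delta h D u ≫ delta h D v :=
  hom_ext_cTop h D hJ _ _ fun x => by
    refine (delta_cTop h D (u ≫ v) x).trans (Eq.symm ?_)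
    refine (congrArg ((delta h D v).val.app (op (cU D ⊤))) (delta_cTop h D u x)).trans ?_
    exact delta_cTop h D v _

theorem delta_zero {M N : ModuleCat.{u} A} (hJ : Good J) [Module.Finite A M] :
    delta h D (0 : M ⟶ N) = 0 :=
  hom_ext_cTop h D hJ _ _ fun x => by
    refine (delta_cTop h D (0 : M ⟶ N) x).trans ?_
    exact map_zero (cTop h D N)

theorem delta_comp_eq_zero_iff (hJ : Good J) {M N P : ModuleCat.{u} A} [Module.Finite A M] [Module.Finite A P]
    (u : M ⟶ N) (v : N ⟶ P) : delta h D u ≫ delta h D v = 0 ↔ u ≫ v = 0 := by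
  rw [← delta_comp h D u v hJ]
  exact ⟨fun e => (bijective_delta h D hJ M P).1 (e.trans (delta_zero h D hJ).symm), fun e => by
    rw [e, delta_zero h D hJ]⟩

/-- Elements killed on all levels by a map are images. -/
theorem exists_sec_preimage (hJ : Good J) (S : ShortComplex (ModuleCat.{u} A)) (hS : S.ShortExact)
    [Module.Finite A S.X₂] {W : (XA).Opens} (hW : IsAffineOpen W) :
    (∀ y : SecM h D S.X₁ W, (delta h D S.f).val.app (op (cU D W)) y = 0 → y = 0) ∧
      ∀ y : SecM h D S.X₂ W, (delta h D S.g).val.app (op (cU D W)) y = 0 →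
        ∃ x : SecM h D S.X₁ W, (delta h D S.f).val.app (op (cU D W)) x = y := by
  let S' : ShortComplex (ModuleCat.{u} (CommRingCat.of A)) := S
  have hS' : S'.ShortExact := hS
  haveI : PreservesFiniteLimits (tilde.functor (CommRingCat.of A)) :=
    QCoh.tilde_preservesFiniteLimits (R := CommRingCat.of A)
  haveI : PreservesFiniteColimits (tilde.functor (CommRingCat.of A)) :=
    QCoh.tilde_preservesFiniteColimits (R := CommRingCat.of A)
  haveI : (tilde.functor (CommRingCat.of A)).Additive := Functor.additive_of_preserves_binary_products _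
  have hT := hS'.map_of_exact (tilde.functor (CommRingCat.of A))
  have hm := hT.mono_f
  have hep := hT.epi_g
  have hi := QCoh.app_injective (S'.map (tilde.functor (CommRingCat.of A))).f W
  haveI := finite_sect S.X₂ hW
  refine ⟨fun y hy => cMap_injective h D _ (isQCoh_tilde S.X₁) (isQCoh_tilde S.X₂) hW hi
    (hasAR_ideal J hJ hW) y hy, fun y hy => ?_⟩
  refine cMap_exact h D _ _ (isQCoh_tilde S.X₁) (isQCoh_tilde S.X₂) (isQCoh_tilde S.X₃) hW hi
    (QCoh.app_surjective_of_shortExact hT (isQCoh_tilde S.X₁) hW) (fun x hx => ?_) (hasAR_ideal J hJ hW) y hy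
  exact QCohRep7.exists_app_eq hT.exact (isQCoh_tilde S.X₁) (isQCoh_tilde S.X₂) (isQCoh_tilde S.X₃) hW x hx

theorem shortExact_delta (hJ : Good J) (S : ShortComplex (ModuleCat.{u} A)) (hS : S.ShortExact)
    [Module.Finite A S.X₁] [Module.Finite A S.X₂] [Module.Finite A S.X₃] :
    ∃ w : delta h D S.f ≫ delta h D S.g = 0, (ShortComplex.mk _ _ w).ShortExact := by
  have w := (delta_comp_eq_zero_iff h D hJ S.f S.g).mpr S.zero
  refine ⟨w, { exact := exact_of_basis (isBasis_basSet D) _ ?_, mono_f := ?_, epi_g := ?_ }⟩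
  · rintro _ ⟨s, rfl⟩ y hy
    exact (exists_sec_preimage h D hJ S hS (isAffineOpen_bas s)).2 y hy
  · refine mono_of_basis (isBasis_basSet D) _ ?_
    rintro _ ⟨s, rfl⟩ y hy
    exact (exists_sec_preimage h D hJ S hS (isAffineOpen_bas s)).1 y hy
  · refine epi_of_basis (isBasis_basSet D) _ ?_
    rintro _ ⟨s, rfl⟩ y
    obtain ⟨n, t, ht⟩ := exists_gens S.X₂
    have hg : Function.Surjective S.g.hom := hS.moduleCat_surjective_g
    have ht' : ∀ x : S.X₃, ∃ c : ULift.{u} (Fin n) → A, ∑ i, c i • S.g.hom (t i) = x := fun x => by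
      obtain ⟨z, rfl⟩ := hg x
      obtain ⟨c, rfl⟩ := ht z
      exact ⟨c, by simp⟩
    obtain ⟨c, rfl⟩ := cM_gen h D (isQCoh_tilde S.X₃) (isAffineOpen_bas s)
      (fg_ideal J hJ.fg (isAffineOpen_bas s)) _ (θW_gen S.X₃ _ ht' s) y
    refine ⟨∑ i, c i • cM h D _ (bas s) (θW S.X₂ (bas s) (t i)), ?_⟩
    refine (mapp_sum_smul _ (delta h D S.g) c _).trans (Finset.sum_congr rfl fun i _ => congrArg (c i • ·) ?_)
    exact (delta_cM h D S.g _ _).trans (congrArg _ (θW_natural S.g _ (t i)))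

theorem shortExact_of_delta (hJ : Good J) {M₁ M₂ M₃ : ModuleCat.{u} A} [Module.Finite A M₁] [Module.Finite A M₂]
    [Module.Finite A M₃] (u : M₁ ⟶ M₂) (v : M₂ ⟶ M₃)
    (hΔ : ∃ w : delta h D u ≫ delta h D v = 0, (ShortComplex.mk _ _ w).ShortExact) :
    ∃ w : u ≫ v = 0, (ShortComplex.mk u v w).ShortExact := by
  obtain ⟨w, hw⟩ := hΔ
  have w' := (delta_comp_eq_zero_iff h D hJ u v).mp w
  have := hw.mono_f
  have := hw.epi_g
  refine ⟨w', { exact := ?_, mono_f := ?_, epi_g := ?_ }⟩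
  · rw [ShortComplex.moduleCat_exact_iff]
    intro x hx
    have h1 : (delta h D v).val.app (op (cU D ⊤)) (cTop h D M₂ x) = 0 :=
      (delta_cTop h D v x).trans ((congrArg (cTop h D M₃) hx).trans (map_zero _))
    obtain ⟨z, hz⟩ := sect_exact_of_mono hw.exact (cU D ⊤) (cTop h D M₂ x) h1
    obtain ⟨a, rfl⟩ := (bijective_cTop h D hJ M₁).2 z
    exact ⟨a, (bijective_cTop h D hJ M₂).1 ((delta_cTop h D u a).symm.trans hz)⟩
  · refine (ModuleCat.mono_iff_injective _).mpr fun a b e => (bijective_cTop h D hJ M₁).1 ?_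
    refine sect_injective_of_mono (delta h D u) _ ?_
    exact (delta_cTop h D u a).trans ((congrArg (cTop h D M₂) e).trans (delta_cTop h D u b).symm)
  · let q : M₃ ⟶ ModuleCat.of A (M₃ ⧸ LinearMap.range v.hom) := ModuleCat.ofHom (LinearMap.range v.hom).mkQ
    haveI : Module.Finite A (ModuleCat.of A (M₃ ⧸ LinearMap.range v.hom)) :=
      inferInstanceAs (Module.Finite A (M₃ ⧸ LinearMap.range v.hom))
    have hvq : v ≫ q = 0 := ModuleCat.hom_ext (LinearMap.range_mkQ_comp v.hom)
    have hq : q = 0 := (bijective_delta h D hJ _ _).1 (((cancel_epi (delta h D v)).mp (by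
      rw [(delta_comp_eq_zero_iff h D hJ v q).mpr hvq, comp_zero])).trans (delta_zero h D hJ).symm)
    refine (ModuleCat.epi_iff_range_eq_top _).mpr ?_
    refine eq_top_iff.mpr fun x _ => (Submodule.Quotient.mk_eq_zero _).mp ?_
    exact congrArg (fun f : M₃ ⟶ _ => f.hom x) hq

end Groth.Agent.FRig
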