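import Groth.Agent.FRig.Affine

/-!
# The completion as a system cut out by powers
-/

set_option backward.isDefEq.respectTransparency false
set_option backward.isDefEq.respectTransparency.types false
set_option linter.style.haveILetI false

universe u
open CategoryTheory AlgebraicGeometry
namespace Groth.Agent.FRig
variable {X : Scheme.{u}} (𝒥 : X.IdealSheafData)

/-- Modules sent to systems, functorially. -/
abbrev SysFun (𝔛 : FSch.Sys.{u}) (X : Scheme.{u}) : Type (u + 1) :=
  Σ K : X.Modules → FSch.ModSys 𝔛, ∀ F G : X.Modules, (F ⟶ G) → (K F ⟶ K G)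

theorem sysFun_ext {𝔛 : FSch.Sys.{u}} (a b : SysFun 𝔛 X) (hK : ∀ F, a.1 F = b.1 F)
    (hm : ∀ F G φ k, HEq ((a.2 F G φ : FSch.ModSys.Hom _ _).app k) ((b.2 F G φ : FSch.ModSys.Hom _ _).app k)) :
    a = b := by
  obtain ⟨K, m⟩ := a
  obtain ⟨L, n⟩ := b
  obtain rfl : K = L := funext hK
  exact Sigma.ext rfl (heq_of_eq (funext fun F => funext fun G => funext fun φ =>
    FSch.ModSys.Hom.ext (funext fun k => eq_of_heq (hm F G φ k))))

theorem cMod_compl (F : X.Modules) : cMod (complCData 𝒥) F = FSch.complMod 𝒥 F := by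
  simp only [cMod, complCData, FSch.complMod, FSch.complTransIso]

theorem cModMap_compl {F G : X.Modules} (φ : F ⟶ G) (k : ℕ) :
    HEq ((cModMap (complCData 𝒥) φ).app k) ((FSch.complModMap 𝒥 φ).app k) := by
  simp only [cModMap, complCData, FSch.complModMap_app]
  exact HEq.rfl

theorem compl_sysFun :
    (⟨cMod (complCData 𝒥), fun _ _ φ => cModMap (complCData 𝒥) φ⟩ : SysFun (FSch.completionAlong X 𝒥) X) =
      ⟨FSch.complMod 𝒥, fun _ _ φ => FSch.complModMap 𝒥 φ⟩ :=
  sysFun_ext _ _ (cMod_compl 𝒥) fun _ _ φ k => cModMap_compl 𝒥 φ k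
variable {A : Type u} [CommRing A] {J : Ideal A}
  (h : (FSch.completionAlong (Spec (CommRingCat.of A)) (FSch.idealSpec A J)).IsFormal)

theorem compl_bijective (hJ : Good J) (M N : ModuleCat.{u} A) [Module.Finite A M] [Module.Finite A N] :
    Function.Bijective (fun u : M ⟶ N =>
      FSch.ModSys.realModMap h (FSch.complModMap (FSch.idealSpec A J) ((tilde.functor (CommRingCat.of A)).map u))) :=
  (congrArg (fun K : SysFun _ _ => Function.Bijective fun u : M ⟶ N =>
    FSch.ModSys.realModMap h (K.2 _ _ ((tilde.functor (CommRingCat.of A)).map u))) (compl_sysFun _)).mp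
      (bijective_delta h (complCData _) hJ M N)

theorem compl_shortExact (hJ : Good J) (S : ShortComplex (ModuleCat.{u} A)) (hS : S.ShortExact)
    [Module.Finite A S.X₁] [Module.Finite A S.X₂] [Module.Finite A S.X₃] :
    ∃ w : FSch.ModSys.realModMap h (FSch.complModMap (FSch.idealSpec A J) ((tilde.functor (CommRingCat.of A)).map S.f)) ≫
        FSch.ModSys.realModMap h (FSch.complModMap (FSch.idealSpec A J) ((tilde.functor (CommRingCat.of A)).map S.g)) = 0,
      (ShortComplex.mk _ _ w).ShortExact :=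
  (congrArg (fun K : SysFun _ _ =>
    ∃ w : FSch.ModSys.realModMap h (K.2 _ _ ((tilde.functor (CommRingCat.of A)).map S.f)) ≫
        FSch.ModSys.realModMap h (K.2 _ _ ((tilde.functor (CommRingCat.of A)).map S.g)) = 0,
      (ShortComplex.mk _ _ w).ShortExact) (compl_sysFun _)).mp
    (shortExact_delta h (complCData _) hJ S hS)

theorem compl_shortExact_iff (hJ : Good J) {M₁ M₂ M₃ : ModuleCat.{u} A} [Module.Finite A M₁] [Module.Finite A M₂]
    [Module.Finite A M₃] (u : M₁ ⟶ M₂) (v : M₂ ⟶ M₃)
    (hΔ : ∃ w : FSch.ModSys.realModMap h (FSch.complModMap (FSch.idealSpec A J) ((tilde.functor (CommRingCat.of A)).map u)) ≫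
        FSch.ModSys.realModMap h (FSch.complModMap (FSch.idealSpec A J) ((tilde.functor (CommRingCat.of A)).map v)) = 0,
      (ShortComplex.mk _ _ w).ShortExact) :
    ∃ w : u ≫ v = 0, (ShortComplex.mk u v w).ShortExact :=
  shortExact_of_delta h (complCData _) hJ u v
    ((congrArg (fun K : SysFun _ _ =>
      ∃ w : FSch.ModSys.realModMap h (K.2 _ _ ((tilde.functor (CommRingCat.of A)).map u)) ≫
          FSch.ModSys.realModMap h (K.2 _ _ ((tilde.functor (CommRingCat.of A)).map v)) = 0,
        (ShortComplex.mk _ _ w).ShortExact) (compl_sysFun _)).mpr hΔ)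

end Groth.Agent.FRig
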