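import Groth.Agent.FRig.Limit
import Groth.Agent.FRig.Affine
import Mathlib.Algebra.Module.FinitePresentation

/-!
# Finite presentation is read off from the levels
-/

set_option backward.isDefEq.respectTransparency false
set_option backward.isDefEq.respectTransparency.types false
set_option linter.style.haveILetI false

universe u

open CategoryTheory CategoryTheory.Limits AlgebraicGeometry TopologicalSpace Opposite

noncomputable section

namespace Groth.Agent.FRig

variable {A : Type u} [CommRing A] {J : Ideal A}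

/-- A finite module with finitely presented truncations is finitely presented. -/
theorem finitePresentation_of_trunc (hJ : Good J) (L : Type u) [AddCommGroup L] [Module A L] [Module.Finite A L]
    (hfp : ∀ n : ℕ, Module.FinitePresentation A (L ⧸ (J ^ (n + 1) • ⊤ : Submodule A L))) :
    Module.FinitePresentation A L := by
  classical
  obtain ⟨s, π, hπ⟩ := Module.Finite.exists_fin' A L
  refine Module.finitePresentation_of_free_of_surjective π hπ ?_
  set K := LinearMap.ker π with hK
  have hAR : Frg7.HasAR J := by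
    have h := hJ.hasAR A inferInstance
    rwa [Algebra.algebraMap_self, Ideal.map_id] at h
  obtain ⟨k, hk⟩ := hAR (Fin s → A) K
  let Q := (J ^ (k + 1) • ⊤ : Submodule A L)
  let T : Submodule A (Fin s → A) := J ^ (k + 1) • ⊤
  have hKT : (K ⊔ T).FG := by
    haveI := hfp k
    have h := Module.FinitePresentation.fg_ker (Q.mkQ.comp π) ((Submodule.mkQ_surjective Q).comp hπ)
    have e : LinearMap.ker (Q.mkQ.comp π) = K ⊔ T := by
      rw [LinearMap.ker_comp, Submodule.ker_mkQ, show Q = Submodule.map π T by
        rw [Submodule.map_smul'', Submodule.map_top, LinearMap.range_eq_top.mpr hπ],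
        Submodule.comap_map_eq, sup_comm]
    rwa [e] at h
  obtain ⟨S, hS⟩ := hKT
  choose a ha b hb hab using fun x : S => Submodule.mem_sup.mp (hS ▸ Submodule.subset_span x.2 : (x : Fin s → A) ∈ K ⊔ T)
  let X := Submodule.span A (Set.range a)
  have hXK : X ≤ K := Submodule.span_le.mpr (Set.range_subset_iff.mpr ha)
  have hdec : K ⊔ T ≤ X ⊔ T := by
    rw [← hS, Submodule.span_le]
    intro x hx
    rw [show x = a ⟨x, hx⟩ + b ⟨x, hx⟩ from (hab ⟨x, hx⟩).symm]
    exact add_mem (Submodule.mem_sup_left (Submodule.subset_span ⟨_, rfl⟩)) (Submodule.mem_sup_right (hb _))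
  have h1 : K ≤ X ⊔ J • K := by
    intro x hx
    obtain ⟨y, hy, z, hz, rfl⟩ := Submodule.mem_sup.mp (hdec (Submodule.mem_sup_left hx))
    have hzK : z ∈ K := (Submodule.add_mem_iff_right K (hXK hy)).mp hx
    have h2 : z ∈ J ^ 1 • K := hk 1 ⟨by rwa [add_comm], hzK⟩
    rw [pow_one] at h2
    exact Submodule.mem_sup.mpr ⟨y, hy, z, h2, rfl⟩
  have hn : ∀ n : ℕ, K ≤ X ⊔ J ^ n • K := by
    intro n
    induction n with
    | zero => rw [pow_zero, Ideal.one_eq_top, Submodule.top_smul]; exact le_sup_right
    | succ n ih =>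
      refine ih.trans (sup_le le_sup_left ?_)
      refine (Submodule.smul_mono le_rfl h1).trans ?_
      rw [Submodule.smul_sup, ← mul_smul, ← pow_succ]
      exact sup_le_sup_right Submodule.smul_le_right _
  have : K = X := by
    refine le_antisymm (fun x hx => ?_) hXK
    haveI := hJ.complete ((Fin s → A) ⧸ X) inferInstance
    refine (Submodule.Quotient.mk_eq_zero X).mp (IsHausdorff.haus' (I := J) _ fun n => SModEq.zero.mpr ?_)
    obtain ⟨y, hy, z, hz, rfl⟩ := Submodule.mem_sup.mp (hn n hx)
    rw [Submodule.Quotient.mk_add, (Submodule.Quotient.mk_eq_zero X).mpr hy, zero_add]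
    have := Submodule.mem_map_of_mem (f := X.mkQ) hz
    rw [Submodule.map_smul''] at this
    exact Submodule.smul_mono le_rfl le_top this
  rw [this]
  exact Submodule.fg_span (Set.finite_range a)

open FComplLib in
theorem finitePresentation_of_levels (hJ : Good J) {𝔛 : FSch.Sys.{u}} (D : AffData A J 𝔛) (L : ModuleCat.{u} A)
    [Module.Finite A L] (hfp : ∀ n, Module.FinitePresentation Γ(𝔛.X n, ⊤) Γ((D.sys L).F n, ⊤)) :
    Module.FinitePresentation A L := by
  refine finitePresentation_of_trunc hJ L fun n => ?_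
  have := D.cl n
  let G := Γ((D.sys L).F n, ⊤)
  letI : Algebra A Γ(𝔛.X n, ⊤) := (D.σ n).toAlgebra
  letI : Module A G := Module.compHom _ (D.σ n)
  haveI : IsScalarTower A Γ(𝔛.X n, ⊤) G := IsScalarTower.of_algebraMap_smul fun _ _ => rfl
  let Φ : L →ₗ[A] G :=
    { toFun := D.sec L n, map_add' := map_add _, map_smul' := D.sec_smul L n }
  have hΦ : LinearMap.ker Φ = J ^ (n + 1) • ⊤ := SetLike.ext fun x => D.sec_eq_zero_iff L n x
  haveI : Module.FinitePresentation A Γ(𝔛.X n, ⊤) := by
    refine Module.finitePresentation_of_free_of_surjective (Algebra.linearMap A _) (D.σ_surjective n) ?_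
    have hker : LinearMap.ker (Algebra.linearMap A Γ(𝔛.X n, ⊤)) = (J ^ (n + 1) : Ideal A) := by
      ext a
      have h1 : (D.σ n) a = 0 ↔ (Scheme.ΓSpecIso (CommRingCat.of A)).inv a ∈
          (D.p n).ker.ideal ⟨⊤, isAffineOpen_top _⟩ := by
        rw [Scheme.Hom.ker_apply]
        exact Iff.rfl
      refine Iff.trans h1 ?_
      rw [D.ker, Scheme.IdealSheafData.ideal_pow, Pi.pow_apply, AffData.idealSpec_ideal_top, ← Ideal.map_pow]
      have hb := ConcreteCategory.bijective_of_isIso (Scheme.ΓSpecIso (CommRingCat.of A)).inv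
      refine (Ideal.mem_map_iff_of_surjective _ hb.2).trans ⟨?_, fun ha => ⟨a, ha, rfl⟩⟩
      rintro ⟨b, hb', e⟩
      exact hb.1 e ▸ hb'
    rw [hker]
    exact Submodule.FG.pow hJ.fg _
  haveI := hfp n
  haveI : Module.FinitePresentation A G := Module.FinitePresentation.trans (R := A) (M := G) Γ(𝔛.X n, ⊤)
  exact Module.FinitePresentation.of_equiv
    ((Submodule.quotEquivOfEq _ _ hΦ.symm).trans (Φ.quotKerEquivOfSurjective (D.sec_surjective L n))).symm

end Groth.Agent.FRig
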