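import Groth.Agent.FRig.ToReal
import Groth.Agent.FRig.FP
import Groth.Agent.FRig.Compl

/-!
# Finitely presented modules on a rigid formal spectrum come from modules
-/

set_option backward.isDefEq.respectTransparency false
set_option backward.isDefEq.respectTransparency.types false
set_option linter.style.haveILetI false

universe u

open CategoryTheory CategoryTheory.Limits AlgebraicGeometry TopologicalSpace Opposite

noncomputable section

namespace Groth.Agent.FRig

open FComplLib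

/-- The modules of isomorphic systems are isomorphic. -/
theorem nonempty_realMod_iso {𝔛 : FSch.Sys.{u}} (h : 𝔛.IsFormal) {𝔐 𝔑 : FSch.ModSys 𝔛} (e : 𝔐 ≅ 𝔑) :
    Nonempty (𝔐.realMod h ≅ 𝔑.realMod h) := by
  have key : ∀ {P Q : FSch.ModSys 𝔛} (a : P ⟶ Q) (b : Q ⟶ P), a ≫ b = 𝟙 P →
      FSch.ModSys.realModMap h a ≫ FSch.ModSys.realModMap h b = 𝟙 _ := by
    intro P Q a b hab
    refine limit.hom_ext fun j => ?_
    change (FSch.ModSys.realModMap h a ≫ FSch.ModSys.realModMap h b) ≫ FSch.realProj 𝔛 h P.F P.toPush j.unop =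
      𝟙 _ ≫ FSch.realProj 𝔛 h P.F P.toPush j.unop
    rw [Category.assoc, FSch.ModSys.realModMap, FSch.ModSys.realModMap, FSch.realLimMap_realProj,
      ← Category.assoc, FSch.realLimMap_realProj, Category.assoc, ← Functor.map_comp, Category.id_comp]
    rw [show (a : FSch.ModSys.Hom _ _).app j.unop ≫ (b : FSch.ModSys.Hom _ _).app j.unop = 𝟙 _ from
      congrArg (fun f : P ⟶ P => (f : FSch.ModSys.Hom _ _).app j.unop) hab, CategoryTheory.Functor.map_id,
      Category.comp_id]
  exact ⟨⟨FSch.ModSys.realModMap h e.hom, FSch.ModSys.realModMap h e.inv,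
    key _ _ e.hom_inv_id, key _ _ e.inv_hom_id⟩⟩

variable {R : Type u} [CommRing R] {I : Ideal R} {A : Type u} [CommRing A] [Algebra R A]

theorem exists_module {𝔛 : FSch.Sys.{u}} (h : 𝔛.IsFormal)
    (D : CData (FSch.idealSpec A (I.map (algebraMap R A))) 𝔛) (D' : AffData A (I.map (algebraMap R A)) 𝔛)
    (F : FSch.ModF 𝔛 h) (hF : FSch.IsCohF 𝔛 h F) (hR : AdicRing.IsBase R I)
    (hA : AdicRing.TopFiniteType R I A) :
    ∃ M : ModuleCat.{u} A, Module.FinitePresentation A M ∧ Nonempty (F ≅ (D'.sys M).realMod h) := by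
  have hJ := good_of_topFiniteType hR hA
  let 𝔐 := FModLib.levSys h F
  have hlev : ∀ n, Coh.IsQCoh (𝔐.F n) ∧ CohB1.IsFP (𝔐.F n) := fun n => isFP_lev h n F hF
  have hcoh : 𝔐.IsCoh := fun n => QCoh.isCoh_iff.2 ⟨(hlev n).1, fun U => by
    have := QCoh.finitePresentation_of_isFP (hlev n).2 U.2
    infer_instance⟩
  haveI : IsAdicComplete (I.map (algebraMap R A)) A := hJ.complete A inferInstance
  obtain ⟨L, hfin, ⟨e⟩⟩ := exists_iso_sys_fg D' hJ.fg 𝔐 hcoh
  refine ⟨L, finitePresentation_of_levels hJ D' L fun n => ?_, ?_⟩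
  · have := D'.isAffine n
    let a : (D'.sys L).F n ≅ 𝔐.F n :=
      ⟨(e.inv : FSch.ModSys.Hom _ _).app n, (e.hom : FSch.ModSys.Hom _ _).app n,
        congrArg (fun f : D'.sys L ⟶ D'.sys L => (f : FSch.ModSys.Hom _ _).app n) e.inv_hom_id,
        congrArg (fun f : 𝔐 ⟶ 𝔐 => (f : FSch.ModSys.Hom _ _).app n) e.hom_inv_id⟩
    let l : Γ((D'.sys L).F n, ⊤) →ₗ[Γ(𝔛.X n, ⊤)] Γ(𝔐.F n, ⊤) :=
      { toFun := a.hom.app ⊤, map_add' := map_add (a.hom.app ⊤).hom, map_smul' := fun r x => a.hom.app_smul r x }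
    have hl : Function.Bijective l := by
      have : IsIso a.hom := Iso.isIso_hom a
      have : IsIso (a.hom.app ⊤) := Scheme.Modules.Hom.isIso_iff_isIso_app.mp ‹_› _
      exact ConcreteCategory.bijective_of_isIso (a.hom.app ⊤)
    have := QCoh.finitePresentation_of_isFP (hlev n).2 (isAffineOpen_top (𝔛.X n))
    exact Module.FinitePresentation.of_equiv (LinearEquiv.ofBijective l hl).symm
  · have := isIso_toReal hR hA h D F hF
    obtain ⟨e'⟩ := nonempty_realMod_iso h e
    exact ⟨asIso (FModLib.toReal h F) ≪≫ e'⟩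

end Groth.Agent.FRig
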