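import Groth.Agent.FModLib.LevelPres
import Groth.Agent.FRig.Affine

/-!
# The levels of a presented module, without Noetherian hypotheses
-/

set_option backward.isDefEq.respectTransparency false
set_option backward.isDefEq.respectTransparency.types false
set_option linter.style.haveILetI false

universe u

open CategoryTheory CategoryTheory.Limits AlgebraicGeometry TopologicalSpace Opposite

noncomputable section

namespace Groth.Agent.FRig

open FComplLib FModLib

section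

variable {R : Type u} [CommRing R]

/-- An object corepresenting the tuples killed by `g` is the cokernel of `g`. -/
theorem isQCoh_and_presented (M : (Spec (CommRingCat.of R)).Modules) {n m : ℕ}
    (t : ULift.{u} (Fin n) → Γ(M, ⊤)) (g : ULift.{u} (Fin m) → ULift.{u} (Fin n) → R)
    (hrel : ∀ j, ∑ i, scal (g j i) • t i = 0)
    (hex : ∀ (N : (Spec (CommRingCat.of R)).Modules) (s : ULift.{u} (Fin n) → Γ(N, ⊤)),
      (∀ j, ∑ i, scal (g j i) • s i = 0) → ∃! φ : M ⟶ N, ∀ i, φ.app ⊤ (t i) = s i) :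
    Coh.IsQCoh M ∧ (∀ y : Γ(M, ⊤), ∃ c : ULift.{u} (Fin n) → R, ∑ i, scal (c i) • t i = y) ∧
      ∀ c : ULift.{u} (Fin n) → R, ∑ i, scal (c i) • t i = 0 →
        ∃ d : ULift.{u} (Fin m) → R, ∀ i, ∑ j, d j * g j i = c i := by
  classical
  let K : Submodule R (ULift.{u} (Fin n) → R) := Submodule.span R (Set.range g)
  let Q : ModuleCat.{u} R := ModuleCat.of R ((ULift.{u} (Fin n) → R) ⧸ K)
  let q : ULift.{u} (Fin n) → Q := fun i => Submodule.Quotient.mk (Pi.single i 1)
  have hqc : ∀ c : ULift.{u} (Fin n) → R, (Submodule.Quotient.mk c : Q) = ∑ i, c i • q i := by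
    intro c
    have hc : c = ∑ i, c i • (Pi.single i 1 : ULift.{u} (Fin n) → R) := pi_eq_sum_univ' c
    conv_lhs => rw [hc]
    exact (map_sum K.mkQ _ _).trans (Finset.sum_congr rfl fun i _ => map_smul K.mkQ _ _)
  have hθc : ∀ c : ULift.{u} (Fin n) → R, θ Q (Submodule.Quotient.mk c) = ∑ i, scal (c i) • θ Q (q i) := by
    intro c
    rw [hqc, map_sum]
    exact Finset.sum_congr rfl fun i _ => θ_smul Q (c i) (q i)
  obtain ⟨φ, hφ, -⟩ := hex (tilde (R := CommRingCat.of R) Q) (fun i => θ Q (q i)) fun j => by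
    rw [← hθc, (Submodule.Quotient.mk_eq_zero K).mpr (Submodule.subset_span ⟨j, rfl⟩), map_zero]
  let M₀ := (moduleSpecΓFunctor (R := CommRingCat.of R)).obj M
  let t₀ : ULift.{u} (Fin n) → M₀ := t
  let L : (ULift.{u} (Fin n) → R) →ₗ[R] M₀ := Fintype.linearCombination R t₀
  have hL : ∀ c, L c = (show M₀ from ∑ i, scal (c i) • t i) := fun c => by
    rw [Fintype.linearCombination_apply]
    exact Finset.sum_congr rfl fun i _ => moduleSpec_smul M (c i) (t₀ i)
  have hK : K ≤ LinearMap.ker L := by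
    rw [Submodule.span_le]
    rintro _ ⟨j, rfl⟩
    exact LinearMap.mem_ker.mpr ((hL (g j)).trans (hrel j))
  let L' : Q →ₗ[R] M₀ := K.liftQ L hK
  obtain ⟨ψ, hψ⟩ := exists_hom_tilde Q M L'.toAddMonoidHom
    fun a x => (map_smul L' a x).trans (moduleSpec_smul M a (L' x))
  have hψq : ∀ i, ψ.app ⊤ (θ Q (q i)) = t i := fun i => by
    rw [hψ]
    show L (Pi.single i 1) = t₀ i
    rw [Fintype.linearCombination_apply]
    simp only [Pi.single_apply, ite_smul, one_smul, zero_smul, Finset.sum_ite_eq', Finset.mem_univ, if_true]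
  have h1 : φ ≫ ψ = 𝟙 M := by
    obtain ⟨α, -, hu⟩ := hex M t hrel
    rw [hu (φ ≫ ψ) fun i => ?_, hu (𝟙 M) fun i => rfl]
    rw [Scheme.Modules.Hom.comp_app]
    exact (congrArg (ψ.app ⊤) (hφ i)).trans (hψq i)
  have h2 : ψ ≫ φ = 𝟙 _ := by
    refine hom_tilde_ext fun x => ?_
    obtain ⟨c, rfl⟩ := Submodule.Quotient.mk_surjective K x
    rw [hθc, app_top_sum, app_top_sum]
    refine Finset.sum_congr rfl fun i _ => congrArg (scal (c i) • ·) ?_
    rw [Scheme.Modules.Hom.comp_app]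
    exact (congrArg (φ.app ⊤) (hψq i)).trans (hφ i)
  have hinj : ∀ x, ψ.app ⊤ x = 0 → x = 0 := fun x hx => by
    have h3 := congrArg (fun f : tilde (R := CommRingCat.of R) Q ⟶ _ => f.app ⊤ x) h2
    simp only [Scheme.Modules.Hom.comp_app] at h3
    exact h3.symm.trans ((congrArg (φ.app ⊤) hx).trans (map_zero (φ.app ⊤).hom))
  refine ⟨(QCoh.isQCoh_iff_iso (⟨ψ, φ, h2, h1⟩ : tilde (R := CommRingCat.of R) Q ≅ M)).1
    (isQCoh_tilde (A := R) Q), fun y => ?_, fun c hc => ?_⟩
  · obtain ⟨x, hx⟩ := (bijective_θ Q).2 (φ.app ⊤ y)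
    obtain ⟨c, rfl⟩ := Submodule.Quotient.mk_surjective K x
    refine ⟨c, ?_⟩
    have h3 := congrArg (fun f : M ⟶ M => f.app ⊤ y) h1
    simp only [Scheme.Modules.Hom.comp_app] at h3
    refine Eq.trans ?_ h3
    refine Eq.trans ?_ (congrArg (ψ.app ⊤) hx)
    rw [hθc, app_top_sum]
    exact Finset.sum_congr rfl fun i _ => congrArg (scal (c i) • ·) (hψq i).symm
  · have h4 : θ Q (Submodule.Quotient.mk c) = 0 := hinj _ (by
      rw [hθc, app_top_sum]
      exact (Finset.sum_congr rfl fun i _ => congrArg (scal (c i) • ·) (hψq i)).trans hc)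
    rw [← map_zero (θ Q)] at h4
    have h5 := (Submodule.Quotient.mk_eq_zero K).mp ((bijective_θ Q).1 h4)
    obtain ⟨d, hd⟩ := (Submodule.mem_span_range_iff_exists_fun R).mp h5
    exact ⟨d, fun i => by rw [← hd, Finset.sum_apply]; rfl⟩

end

variable {𝔛 : FSch.Sys.{u}} (h : 𝔛.IsFormal) (k : ℕ) (𝔉 : FSch.ModF 𝔛 h)
variable {V : (𝔛.X 0).Opens} {n m : ℕ} {t : ULift.{u} (Fin n) → ModSite.sect (O := 𝔛.Osh h) 𝔉 V}
  {g : ULift.{u} (Fin m) → ULift.{u} (Fin n) → (𝔛.Osh h).obj.obj (op V)}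

/-- Sections of the level over an affine open are presented by the images. -/
theorem levelPres (hP : IsPres (O := 𝔛.Osh h) 𝔉 V t g) (hV : IsAffineOpen V) :
    Coh.IsQCoh ((lev h k 𝔉).restrict (isAffineOpen_lvU h k hV).fromSpec) ∧
      (∀ y : Γ(lev h k 𝔉, 𝔛.lvU h k V), ∃ c : ULift.{u} (Fin n) → Γ(𝔛.X k, 𝔛.lvU h k V),
        ∑ i, c i • toLev h k 𝔉 V (t i) = y) ∧
      ∀ c : ULift.{u} (Fin n) → Γ(𝔛.X k, 𝔛.lvU h k V), ∑ i, c i • toLev h k 𝔉 V (t i) = 0 →
        ∃ d : ULift.{u} (Fin m) → Γ(𝔛.X k, 𝔛.lvU h k V),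
          ∀ i, ∑ j, d j * rproj h k V (g j i) = c i := by
  set hB := isAffineOpen_lvU h k hV
  let L := lev h k 𝔉
  let t' : ULift.{u} (Fin n) → Γ(L.restrict hB.fromSpec, ⊤) := fun i => QCoh.toChart hB L (toLev h k 𝔉 V (t i))
  have hsum : ∀ c : ULift.{u} (Fin n) → Γ(𝔛.X k, 𝔛.lvU h k V),
      QCoh.toChart hB L (∑ i, c i • toLev h k 𝔉 V (t i)) =
        (show Γ(L.restrict hB.fromSpec, ⊤) from ∑ i, scal (c i) • t' i) := by
    intro c
    refine (map_sum (AddMonoidHom.mk' (QCoh.toChart hB L) (QCoh.toChart_add hB L)) _ _).trans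
      (Finset.sum_congr rfl fun i _ => ?_)
    exact (QCoh.toChart_smul hB L (c i) _).trans (FComplLib.moduleSpec_smul _ (c i) _)
  have hz : QCoh.toChart hB L 0 = 0 := map_zero (AddMonoidHom.mk' (QCoh.toChart hB L) (QCoh.toChart_add hB L))
  obtain ⟨hc, hg, hr⟩ := isQCoh_and_presented (R := Γ(𝔛.X k, 𝔛.lvU h k V)) (L.restrict hB.fromSpec) t'
    (fun j i => rproj h k V (g j i)) (fun j => by
      refine Eq.trans (hsum _).symm ?_
      rw [← toLev_sum_smul, hP.rel0 j, map_zero]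
      exact hz) (fun N s hs => by
      let j' := hB.fromSpec
      let G := (FSch.levelMor 𝔛 h k).push.obj ((Scheme.Modules.pushforward j').obj N)
      let ρ := N.presheaf.map (homOfLE (le_top : j' ⁻¹ᵁ 𝔛.lvU h k V ≤ ⊤)).op
      obtain ⟨α, hα, hu⟩ := hP.exists_hom (G := G) (bijective_mres_push h k hB N) (fun i => ρ (s i)) (fun j => by
        refine Eq.trans (Finset.sum_congr rfl fun i _ => ?_) ((map_sum ρ.hom _ _).symm.trans
          ((congrArg ρ (hs j)).trans (map_zero ρ.hom)))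
        refine Eq.trans ?_ (QCoh.map_smul' (M := N) _ (scal (rproj h k V (g j i))) (s i)).symm
        exact congrArg (· • ρ (s i)) (fromSpec_app_scal hB (rproj h k V (g j i))))
      let adj := (FSch.levelMor 𝔛 h k).adj
      let radj := Scheme.Modules.restrictAdjunction j'
      have key : ∀ φ : L.restrict j' ⟶ N, ∀ i,
          ((adj.homEquiv _ _) ((radj.homEquiv L N) φ)).val.app (op V) (t i) = ρ (φ.app ⊤ (t' i)) := by
        intro φ i
        rw [Adjunction.homEquiv_unit]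
        exact homEquiv_restrict_apply hB L N φ (toLev h k 𝔉 V (t i))
      refine ⟨(radj.homEquiv L N).symm ((adj.homEquiv _ _).symm α), fun i => ?_, fun φ hφ => ?_⟩
      · refine (bijective_map_top hB N).1 ?_
        refine Eq.trans (key _ i).symm ?_
        simp only [Equiv.apply_symm_apply]
        exact hα i
      · have e := hu (adj.homEquiv _ _ (radj.homEquiv L N φ)) fun i => (key φ i).trans (congrArg ρ (hφ i))
        rw [← e, Equiv.symm_apply_apply, Equiv.symm_apply_apply])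
  refine ⟨hc, fun y => ?_, fun c hc0 => hr c ?_⟩
  · obtain ⟨c, hc'⟩ := hg (QCoh.toChart hB L y)
    exact ⟨c, (QCoh.bijective_toChart hB L).1 ((hsum c).trans hc')⟩
  · exact (hsum c).symm.trans ((congrArg (QCoh.toChart hB L) hc0).trans hz)

/-- The levels of a finitely presented module are quasi-coherent and finitely presented. -/
theorem isFP_lev (h𝔉 : FSch.IsCohF 𝔛 h 𝔉) : Coh.IsQCoh (lev h k 𝔉) ∧ CohB1.IsFP (lev h k 𝔉) := by
  classical
  have loc : ∀ x : 𝔛.X k, ∃ (W : (𝔛.X 0).Opens) (hW : IsAffineOpen W), x ∈ 𝔛.lvU h k W ∧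
      Coh.IsQCoh ((lev h k 𝔉).restrict (isAffineOpen_lvU h k hW).fromSpec) ∧
      Module.FinitePresentation Γ(𝔛.X k, 𝔛.lvU h k W) Γ(lev h k 𝔉, 𝔛.lvU h k W) := by
    intro x
    obtain ⟨q, rfl⟩ := (FComplLib.surjective_toX h k).surj x
    obtain ⟨U, n, m, t, g, hqU, hP⟩ := exists_isPres (O := 𝔛.Osh h) h𝔉 q
    obtain ⟨_, ⟨W, hW, rfl⟩, hqW, hWU⟩ := (𝔛.X 0).isBasis_affineOpens.exists_subset_of_mem_open hqU U.2
    have hPW := hP.mono (SetLike.coe_subset_coe.mp hWU)
    obtain ⟨hq, hgen, hrel⟩ := FRig.levelPres h k 𝔉 hPW hW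
    refine ⟨W, hW, ?_, hq, ?_⟩
    · show 𝔛.gInv h k ((𝔛.toX k).base q) ∈ W
      rw [gInv_toX_apply]
      exact hqW
    · let C := Γ(𝔛.X k, 𝔛.lvU h k W)
      let π : (ULift.{u} (Fin n) → C) →ₗ[C] Γ(lev h k 𝔉, 𝔛.lvU h k W) :=
        Fintype.linearCombination C fun i => toLev h k 𝔉 W (mres 𝔉 (SetLike.coe_subset_coe.mp hWU) (t i))
      have hπ : ∀ c, π c = ∑ i, c i • toLev h k 𝔉 W (mres 𝔉 (SetLike.coe_subset_coe.mp hWU) (t i)) :=
        fun c => Fintype.linearCombination_apply _ _ _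
      refine Module.finitePresentation_of_free_of_surjective π
        (fun y => (hgen y).imp fun c hc => (hπ c).trans hc) ?_
      have : LinearMap.ker π = Submodule.span C (Set.range fun j => fun i =>
          rproj h k W (ores (𝔛.Osh h) (SetLike.coe_subset_coe.mp hWU) (g j i))) := by
        refine le_antisymm (fun c hc => ?_) (Submodule.span_le.mpr ?_)
        · obtain ⟨d, hd⟩ := hrel c ((hπ c).symm.trans hc)
          exact (Submodule.mem_span_range_iff_exists_fun C).mpr ⟨d, funext fun i => by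
            rw [Finset.sum_apply]; exact hd i⟩
        · rintro _ ⟨j, rfl⟩
          refine (hπ _).trans ?_
          rw [← toLev_sum_smul, hPW.rel0 j, map_zero]
      rw [this]
      exact Submodule.fg_span (Set.finite_range _)
  choose W hW hxW hq hfp using loc
  have hQ : Coh.IsQCoh (lev h k 𝔉) := KZ.isQCoh_of_local fun x =>
    ⟨_, (isAffineOpen_lvU h k (hW x)).fromSpec, inferInstance,
      by rw [(isAffineOpen_lvU h k (hW x)).range_fromSpec]; exact hxW x, hq x⟩
  exact ⟨hQ, QCoh.isFP_of_finitePresentation hQ (fun x : 𝔛.X k => 𝔛.lvU h k (W x))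
    (eq_top_iff.mpr fun x _ => Opens.mem_iSup.mpr ⟨x, hxW x⟩)
    (fun x => isAffineOpen_lvU h k (hW x)) hfp⟩

end Groth.Agent.FRig
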