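import Groth.Agent.FComplLib.AffSysCompl

/-!
# Coherent systems on a completion along a finitely generated ideal
-/

set_option backward.isDefEq.respectTransparency false
set_option backward.isDefEq.respectTransparency.types false

universe u

open CategoryTheory CategoryTheory.Limits AlgebraicGeometry TopologicalSpace Opposite

noncomputable section

namespace Groth.Agent.FRig

open FComplLib FComplLib.AffData

variable {A : Type u} [CommRing A] {I : Ideal A} {𝔛 : FSch.Sys.{u}} (D : AffData A I 𝔛)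

include D in
/-- A coherent system on the completion is the system of a finite module. -/
theorem exists_limit_module_fg (hI : I.FG) [IsAdicComplete I A] (𝔐 : FSch.ModSys 𝔛)
    (h𝔐 : 𝔐.IsCoh) :
    ∃ (L : ModuleCat.{u} A) (π : ∀ n, L →+ Γ(𝔐.F n, ⊤)), Module.Finite A L ∧
      (∀ n a x, π n (a • x) = D.σ n a • π n x) ∧ (∀ n x, trans 𝔐 n (π (n + 1) x) = π n x) ∧
      (∀ n, Function.Surjective (π n)) ∧
      ∀ n x, π n x = 0 ↔ x ∈ I ^ (n + 1) • (⊤ : Submodule A L) := by
  let M : ℕ → Type u := fun n => Γ(𝔐.F n, ⊤)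
  letI : ∀ n, AddCommGroup (M n) := fun n => inferInstanceAs (AddCommGroup Γ(𝔐.F n, ⊤))
  letI : ∀ n, Module A (M n) := fun n => Module.compHom Γ(𝔐.F n, ⊤) (D.σ n)
  let f : ∀ n, M (n + 1) →ₗ[A] M n := fun n =>
    { toFun := trans 𝔐 n
      map_add' := trans_add 𝔐 n
      map_smul' := D.trans_smul 𝔐 n }
  have hker : ∀ n, LinearMap.ker (f n) = I ^ (n + 1) • (⊤ : Submodule A (M (n + 1))) := fun n => by
    refine SetLike.ext fun x => Iff.trans (D.trans_eq_zero_iff 𝔐 h𝔐 n x) ⟨fun h => ?_, fun h => ?_⟩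
    · obtain ⟨y, hy, rfl⟩ := exists_mem_smul_top (R := A) (M := M (n + 1)) (D.σ (n + 1))
        (D.σ_surjective (n + 1)) (AddMonoidHom.id _) Function.surjective_id (fun _ _ => rfl) _ h
      exact hy
    · exact map_mem_smul_top (R := A) (M := M (n + 1)) (P := Γ(𝔐.F (n + 1), ⊤)) (D.σ (n + 1))
        (AddMonoidHom.id _) (fun _ _ => rfl) _ h
  let L : Submodule A (∀ n, M n) :=
    { carrier := {x | ∀ n, f n (x (n + 1)) = x n}
      zero_mem' := fun n => map_zero _
      add_mem' := fun {x y} hx hy n => by rw [Pi.add_apply, map_add, hx n, hy n]; rfl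
      smul_mem' := fun a x hx n => by rw [Pi.smul_apply, map_smul, hx n]; rfl }
  let π : ∀ n, L →ₗ[A] M n := fun n => (LinearMap.proj n).comp L.subtype
  obtain ⟨-, hπ, hfin⟩ := Adic7.limit_quotient_system A I hI M f
    (fun n => D.trans_surjective 𝔐 h𝔐 n) hker L π (fun n => LinearMap.ext fun x => x.2 n)
    (fun x hx => Subtype.ext (funext hx)) (fun y hy => ⟨⟨y, hy⟩, fun n => rfl⟩)
  have hM0 : Module.Finite A (M 0) := by
    have := QCoh.finite_sections (h𝔐 0) (@isAffineOpen_top _ (D.isAffine 0))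
    obtain ⟨s, hs⟩ := this.fg_top
    refine ⟨⟨s, eq_top_iff.mpr fun x _ => ?_⟩⟩
    have key : ∀ z : Γ(𝔐.F 0, ⊤), z ∈ Submodule.span Γ(𝔛.X 0, ⊤) (s : Set Γ(𝔐.F 0, ⊤)) →
        (show M 0 from z) ∈ Submodule.span A ((s : Set Γ(𝔐.F 0, ⊤)) : Set (M 0)) := by
      intro z hz
      induction hz using Submodule.span_induction with
      | mem y hy => exact Submodule.subset_span hy
      | zero => exact Submodule.zero_mem _
      | add y w _ _ hy hw => exact Submodule.add_mem _ hy hw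
      | smul c y _ hy =>
        obtain ⟨a, rfl⟩ := D.σ_surjective 0 c
        exact Submodule.smul_mem _ a hy
    exact key x (by rw [hs]; trivial)
  refine ⟨ModuleCat.of A L, fun n => (π n).toAddMonoidHom, hfin inferInstance hM0, fun n a x => rfl,
    fun n x => x.2 n, fun n => (hπ n).1, fun n x => ?_⟩
  exact (LinearMap.mem_ker (f := π n)).symm.trans (SetLike.ext_iff.mp (hπ n).2 x)

theorem exists_iso_sys_fg (hI : I.FG) [IsAdicComplete I A] (𝔐 : FSch.ModSys 𝔛)
    (h𝔐 : 𝔐.IsCoh) :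
    ∃ L : ModuleCat.{u} A, Module.Finite A L ∧ Nonempty (𝔐 ≅ D.sys L) := by
  obtain ⟨L, π, hfin, hsmul, htrans, hsurj, hker⟩ := exists_limit_module_fg D hI 𝔐 h𝔐
  refine ⟨L, hfin, ?_⟩
  have hφ : ∀ n, ∃ φ : (D.sys L).F n ⟶ 𝔐.F n, ∀ x, φ.app ⊤ (D.sec L n x) = π n x := by
    intro n
    let adj := Scheme.Modules.pullbackPushforwardAdjunction (D.p n)
    let P : (Spec (CommRingCat.of A)).Modules := (Scheme.Modules.pushforward (D.p n)).obj (𝔐.F n)
    obtain ⟨ψ, hψ⟩ := exists_hom_tilde L P (π n) (fun a x => hsmul n a x)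
    obtain ⟨φ, hφ⟩ := (adj.homEquiv _ _).surjective ψ
    refine ⟨φ, fun x => Eq.trans ?_ (hψ x)⟩
    exact congrArg (fun f => Scheme.Modules.Hom.app f ⊤ (θ L x))
      ((Adjunction.homEquiv_unit adj _ _ φ).symm.trans hφ)
  choose φ hφ using hφ
  have hiso : ∀ n, IsIso (φ n) := fun n => by
    have := D.isAffine n
    refine isIso_of_bijective_app_top (AffData.isQCoh_level D L n) (h𝔐 n).1 _
      ⟨(injective_iff_map_eq_zero _).mpr fun z hz => ?_, fun y => ?_⟩
    · obtain ⟨x, rfl⟩ := D.sec_surjective L n z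
      exact (D.sec_eq_zero_iff L n x).2 ((hker n x).1 ((hφ n x).symm.trans hz))
    · obtain ⟨x, rfl⟩ := hsurj n y
      exact ⟨_, hφ n x⟩
  have hcomm : ∀ n, (Scheme.Modules.pullback (𝔛.ι n)).map (φ (n + 1)) ≫ (𝔐.e n).hom =
      ((D.sys L).e n).hom ≫ φ n := by
    intro n
    have := D.isAffine n
    have := D.isAffine (n + 1)
    have := D.cl (n + 1)
    have : IsClosedImmersion (𝔛.ι n ≫ D.p (n + 1)) := by rw [D.comm]; exact D.cl n
    have := IsClosedImmersion.of_comp (𝔛.ι n) (D.p (n + 1))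
    refine hom_ext_top (QCoh.isQCoh_pullback _ (AffData.isQCoh_level D L (n + 1))) (h𝔐 n).1 _ _ fun z => ?_
    obtain ⟨w, rfl⟩ := (QCoh.unit_app_closed (𝔛.ι n) (AffData.isQCoh_level D L (n + 1))
      (isAffineOpen_top _)).1 z
    obtain ⟨x, rfl⟩ := D.sec_surjective L (n + 1) w
    change (𝔐.e n).hom.app ⊤ (((Scheme.Modules.pullback (𝔛.ι n)).map (φ (n + 1))).app ⊤
        (pullTop (𝔛.ι n) _ (D.sec L (n + 1) x))) =
      (φ n).app ⊤ (trans (D.sys L) n (D.sec L (n + 1) x))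
    rw [D.trans_sec, hφ, pullTop_naturality, hφ]
    exact htrans n x
  let Φ : D.sys L ⟶ 𝔐 := ⟨φ, hcomm⟩
  refine ⟨(Iso.symm ⟨Φ, ⟨fun n => inv (φ n), fun n => ?_⟩, ?_, ?_⟩)⟩
  · rw [Functor.map_inv, IsIso.inv_comp_eq, ← Category.assoc, hcomm n, Category.assoc,
      IsIso.hom_inv_id, Category.comp_id]
  · exact FSch.ModSys.Hom.ext (funext fun n => IsIso.hom_inv_id _)
  · exact FSch.ModSys.Hom.ext (funext fun n => IsIso.inv_hom_id _)


end Groth.Agent.FRig
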