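import Groth.Agent.FModLib.LevelSys
import Groth.Agent.FComplLib.AffSysCompl
import Groth.Agent.ExistEasy.PP.PullSec

/-!
# Sections of completions over affine opens

For a scheme `X` with a finitely generated ideal (on the affine opens considered), the sections of the
structure sheaf and of the completion of a quasi-coherent module over the trace of an affine open `W`
are the completions of the sections over `W`.
-/

set_option backward.isDefEq.respectTransparency false
set_option backward.isDefEq.respectTransparency.types false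
set_option linter.style.haveILetI false

universe u

open CategoryTheory CategoryTheory.Limits AlgebraicGeometry TopologicalSpace Opposite

noncomputable section

namespace Groth.Agent.FRig

open FModLib

theorem bijective_map_eq {Z : Scheme.{u}} (M : Z.Modules) {U V : Z.Opens} (h : U ≤ V) (h' : V ≤ U) :
    Function.Bijective (M.presheaf.map (homOfLE h).op) :=
  Function.bijective_iff_has_inverse.mpr ⟨M.presheaf.map (homOfLE h').op,
    fun x => (QCoh.map_map _ _ _).trans (QCoh.map_id' _ _),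
    fun x => (QCoh.map_map _ _ _).trans (QCoh.map_id' _ _)⟩

theorem adjunct_res {P Q : Scheme.{u}} (i : P ⟶ Q) (G : Q.Modules) (H : P.Modules)
    (e : (Scheme.Modules.pullback i).obj G ⟶ H) {V : Q.Opens} {W : P.Opens} (hle : W ≤ i ⁻¹ᵁ V) (x : Γ(G, V)) :
    H.presheaf.map (homOfLE hle).op
        (((Scheme.Modules.pullbackPushforwardAdjunction i).homEquiv G H e).app V x) =
      e.app W (QCoh.pullSec i G hle x) := by
  rw [Adjunction.homEquiv_unit]
  exact (QCoh.map_app_comm e (homOfLE hle) _).symm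

theorem adjunct_res_trans {P Q S : Scheme.{u}} (i : P ⟶ Q) (p : Q ⟶ S) (q : P ⟶ S) (hc : i ≫ p = q)
    (G : S.Modules) {U : S.Opens} {V : Q.Opens} {W : P.Opens} (h₁ : V ≤ p ⁻¹ᵁ U) (h₂ : W ≤ i ⁻¹ᵁ V)
    (h₃ : W ≤ q ⁻¹ᵁ U) (x : Γ(G, U)) :
    ((Scheme.Modules.pullback q).obj G).presheaf.map (homOfLE h₂).op
        (((Scheme.Modules.pullbackPushforwardAdjunction i).homEquiv ((Scheme.Modules.pullback p).obj G) _
          ((Scheme.Modules.pullbackComp i p ≪≫ Scheme.Modules.pullbackCongr hc).app G).hom).app V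
            (QCoh.pullSec p G h₁ x)) =
      QCoh.pullSec q G h₃ x := by
  rw [adjunct_res]
  refine (congrArg (((Scheme.Modules.pullbackCongr hc).hom.app G).app W)
    (ExistEasy.pullSec_comp i p G h₁ h₂ x)).trans ?_
  exact ExistEasy.pullSec_congr hc G _ x

theorem mem_map_smul_top {C L S : Type*} [CommRing C] [CommRing L] [Algebra C L] [AddCommGroup S] [Module C S]
    [Module L S] [IsScalarTower C L S] (J : Ideal C) (x : S) :
    x ∈ J.map (algebraMap C L) • (⊤ : Submodule L S) ↔ x ∈ J • (⊤ : Submodule C S) := by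
  rw [← Submodule.restrictScalars_top C L S, ← Ideal.smul_restrictScalars, Submodule.restrictScalars_mem]

/-- A formal system of closed subschemes of a scheme, cut out by the powers of an ideal sheaf. -/
structure CData {X : Scheme.{u}} (𝒥 : X.IdealSheafData) (𝔛 : FSch.Sys.{u}) where
  /-- The immersions. -/
  p : ∀ k, 𝔛.X k ⟶ X
  cl : ∀ k, IsClosedImmersion (p k)
  comm : ∀ k, 𝔛.ι k ≫ p (k + 1) = p k
  ker : ∀ k, (p k).ker = 𝒥 ^ (k + 1)

/-- The completion of a scheme along an ideal sheaf. -/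
def complCData {X : Scheme.{u}} (𝒥 : X.IdealSheafData) : CData 𝒥 (FSch.completionAlong X 𝒥) where
  p k := FSch.completionToX X 𝒥 k
  cl k := inferInstanceAs (IsClosedImmersion (𝒥 ^ (k + 1)).subschemeι)
  comm k := FSch.completionToX_comm X 𝒥 k
  ker k := Scheme.IdealSheafData.ker_subschemeι _

variable {X : Scheme.{u}} {𝒥 : X.IdealSheafData} {𝔛 : FSch.Sys.{u}} (h : 𝔛.IsFormal) (D : CData 𝒥 𝔛)

/-- The trace of an open on the formal scheme. -/
abbrev cU (W : X.Opens) : (𝔛.X 0).Opens := (D.p 0) ⁻¹ᵁ W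

/-- The system of a module. -/
def cMod (F : X.Modules) : FSch.ModSys 𝔛 where
  F k := (Scheme.Modules.pullback (D.p k)).obj F
  e k := (Scheme.Modules.pullbackComp (𝔛.ι k) (D.p (k + 1)) ≪≫ Scheme.Modules.pullbackCongr (D.comm k)).app F

/-- The map of systems of a morphism of modules. -/
def cModMap {F G : X.Modules} (φ : F ⟶ G) : cMod D F ⟶ cMod D G :=
  ⟨fun k => (Scheme.Modules.pullback (D.p k)).map φ, fun k =>
    (Scheme.Modules.pullbackComp (𝔛.ι k) (D.p (k + 1)) ≪≫ Scheme.Modules.pullbackCongr (D.comm k)).hom.naturality φ⟩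

theorem pre_eq (k : ℕ) (W : X.Opens) : (D.p k) ⁻¹ᵁ W = 𝔛.lvU h k (cU D W) :=
  FSch.lvU_p 𝔛 h D.p (D.comm) k W

/-- The functions of an open as functions on a level. -/
def σ (k : ℕ) (W : X.Opens) : Γ(X, W) →+* Γ(𝔛.X k, 𝔛.lvU h k (cU D W)) :=
  (((D.p k)).appLE W _ (pre_eq h D k W).ge).hom

theorem rtr_σ (k : ℕ) (W : X.Opens) (a : Γ(X, W)) : rtr h k (cU D W) (σ h D (k + 1) W a) = σ h D k W a := by
  have e := congrArg (fun φ => φ.hom.app (op W) a) (FSch.schLevel_levelMap 𝔛 h D.p (D.comm) k)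
  exact e

/-- The functions of an open as formal functions. -/
def toRng (W : X.Opens) : Γ(X, W) →+* (𝔛.Osh h).obj.obj (op (cU D W)) :=
  ((FSch.schSharp 𝔛 h D.p (D.comm)).hom.app (op W)).hom

theorem rproj_toRng (k : ℕ) (W : X.Opens) (a : Γ(X, W)) : rproj h k (cU D W) (toRng h D W a) = σ h D k W a :=
  congrArg (fun φ => φ.hom.app (op W) a) (FSch.schSharp_proj 𝔛 h D.p (D.comm) k)

theorem σ_surjective (k : ℕ) {W : X.Opens} (hW : IsAffineOpen W) : Function.Surjective (σ h D k W) := by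
  have := D.cl k
  have hs : Function.Surjective (((D.p k)).app W) := ((D.p k)).app_surjective W hW
  intro y
  have hb : IsIso (homOfLE (pre_eq h D k W).ge).op := by
    have : IsIso (homOfLE (pre_eq h D k W).ge) :=
      ⟨homOfLE (pre_eq h D k W).le, Subsingleton.elim _ _, Subsingleton.elim _ _⟩
    infer_instance
  obtain ⟨z, rfl⟩ := (ConcreteCategory.bijective_of_isIso ((𝔛.X k).presheaf.map (homOfLE (pre_eq h D k W).ge).op)).2 y
  obtain ⟨a, rfl⟩ := hs z
  exact ⟨a, rfl⟩

theorem ker_σ (k : ℕ) {W : X.Opens} (hW : IsAffineOpen W) :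
    RingHom.ker (σ h D k W) = 𝒥.ideal ⟨W, hW⟩ ^ (k + 1) := by
  have : IsIso (homOfLE (pre_eq h D k W).ge).op := by
    have : IsIso (homOfLE (pre_eq h D k W).ge) :=
      ⟨homOfLE (pre_eq h D k W).le, Subsingleton.elim _ _, Subsingleton.elim _ _⟩
    infer_instance
  have e : 𝒥.ideal ⟨W, hW⟩ ^ (k + 1) = ((D.p k)).ker.ideal ⟨W, hW⟩ := by
    rw [D.ker, Scheme.IdealSheafData.ideal_pow, Pi.pow_apply]
  have := D.cl k
  rw [e, Scheme.Hom.ker_apply]
  ext a
  exact ⟨fun ha => (ConcreteCategory.bijective_of_isIso ((𝔛.X k).presheaf.map (homOfLE (pre_eq h D k W).ge).op)).1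
    (ha.trans (map_zero _).symm), fun ha => (congrArg ((𝔛.X k).presheaf.map (homOfLE (pre_eq h D k W).ge).op) ha).trans (map_zero _)⟩

theorem rtr_ker (k : ℕ) {W : X.Opens} (hW : IsAffineOpen W) :
    RingHom.ker (rtr h k (cU D W)) = (𝒥.ideal ⟨W, hW⟩ ^ (k + 1)).map (σ h D (k + 1) W) := by
  rw [← ker_σ h D k hW, show σ h D k W = (rtr h k (cU D W)).comp (σ h D (k + 1) W) from
    RingHom.ext fun a => (rtr_σ h D k W a).symm, ← RingHom.comap_ker,
    Ideal.map_comap_of_surjective _ (σ_surjective h D (k + 1) hW)]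

theorem exists_rproj (U : (𝔛.X 0).Opens) (z : ∀ k, Γ(𝔛.X k, 𝔛.lvU h k U))
    (hz : ∀ k, rtr h k U (z (k + 1)) = z k) : ∃ x, ∀ k, rproj h k U x = z k := by
  let F := 𝔛.levelRing h ⋙ evalR U
  have hs : ∀ a b (hab : a ≤ b), F.map (homOfLE hab).op (z b) = z a := by
    intro a b hab
    induction b, hab using Nat.le_induction with
    | base =>
      rw [show (homOfLE (le_refl a)).op = 𝟙 (op a) from rfl, F.map_id]
      rfl
    | succ b hab ih =>
      rw [show (homOfLE (hab.trans (Nat.le_succ b))).op =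
        (homOfLE (Nat.le_add_right b 1)).op ≫ (homOfLE hab).op from rfl, F.map_comp]
      refine Eq.trans (congrArg (F.map (homOfLE hab).op) ?_) ih
      refine Eq.trans ?_ (hz b)
      dsimp only [F, Functor.comp_map]
      rw [FSch.Sys.levelRing_map_succ]
      rfl
  let s : F.sections := ⟨fun j => z j.unop, fun {a b} f => by
    have : f = (homOfLE (leOfHom f.unop)).op := Subsingleton.elim _ _
    rw [this]
    exact hs _ _ _⟩
  exact ⟨(Types.isLimitEquivSections (isLimitRing h U)).symm s,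
    fun k => Types.isLimitEquivSections_symm_apply (isLimitRing h U) s (op k)⟩

theorem rng_props {W : X.Opens} (hW : IsAffineOpen W) (hfg : (𝒥.ideal ⟨W, hW⟩).FG) :
    IsAdicComplete ((𝒥.ideal ⟨W, hW⟩).map (toRng h D W)) ((𝔛.Osh h).obj.obj (op (cU D W))) ∧
      ∀ k, Function.Surjective (rproj h k (cU D W)) ∧
        RingHom.ker (rproj h k (cU D W)) = (𝒥.ideal ⟨W, hW⟩).map (toRng h D W) ^ (k + 1) := by
  let C := Γ(X, W)
  let L := (𝔛.Osh h).obj.obj (op (cU D W))
  letI : Algebra C L := (toRng h D W).toAlgebra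
  letI : ∀ k, Algebra C Γ(𝔛.X k, 𝔛.lvU h k (cU D W)) := fun k => (σ h D k W).toAlgebra
  let J := 𝒥.ideal ⟨W, hW⟩
  let f : ∀ k, Γ(𝔛.X (k + 1), 𝔛.lvU h (k + 1) (cU D W)) →ₗ[C] Γ(𝔛.X k, 𝔛.lvU h k (cU D W)) := fun k =>
    ({ rtr h k (cU D W) with commutes' := rtr_σ h D k W } : _ →ₐ[C] _).toLinearMap
  let π : ∀ k, L →ₗ[C] Γ(𝔛.X k, 𝔛.lvU h k (cU D W)) := fun k =>
    ({ rproj h k (cU D W) with commutes' := rproj_toRng h D k W } : L →ₐ[C] _).toLinearMap
  obtain ⟨hc, hπ, -⟩ := Adic7.limit_quotient_system C J hfg (fun k => Γ(𝔛.X k, 𝔛.lvU h k (cU D W))) f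
    (fun k y => by
      obtain ⟨a, ha⟩ := σ_surjective h D k hW y
      exact ⟨σ h D (k + 1) W a, (rtr_σ h D k W a).trans ha⟩)
    (fun k => by
      rw [Ideal.smul_top_eq_map]
      ext x
      exact SetLike.ext_iff.mp (rtr_ker h D k hW) x)
    L π (fun k => LinearMap.ext fun x => rproj_rtr h k (cU D W) x)
    (fun x hx => ext_rproj h (cU D W) fun k => (hx k).trans (map_zero _).symm)
    (fun y hy => exists_rproj h (cU D W) y hy)
  refine ⟨(IsAdicComplete.map_algebraMap_iff J L).mpr hc, fun k => ⟨(hπ k).1, ?_⟩⟩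
  have h2 := (hπ k).2
  rw [Ideal.smul_top_eq_map, Ideal.map_pow] at h2
  ext x
  exact SetLike.ext_iff.mp h2 x

/-! ## Modules -/

variable (F : X.Modules)

/-- Sections of a module on a level. -/
def uM (k : ℕ) (W : X.Opens) (x : Γ(F, W)) : Γ((cMod D F).F k, 𝔛.lvU h k (cU D W)) :=
  QCoh.pullSec ((D.p k)) F (pre_eq h D k W).ge x

theorem uM_add (k : ℕ) (W : X.Opens) (x y : Γ(F, W)) : uM h D F k W (x + y) = uM h D F k W x + uM h D F k W y :=
  QCoh.pullSec_add _ _ _ x y

theorem uM_smul (k : ℕ) (W : X.Opens) (a : Γ(X, W)) (x : Γ(F, W)) :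
    uM h D F k W (a • x) = σ h D k W a • uM h D F k W x :=
  QCoh.pullSec_smul _ _ _ a x

variable {F} in
theorem uM_surjective (hF : Coh.IsQCoh F) (k : ℕ) {W : X.Opens} (hW : IsAffineOpen W) :
    Function.Surjective (uM h D F k W) :=
  have := D.cl k
  (bijective_map_eq ((Scheme.Modules.pullback ((D.p k))).obj F) (pre_eq h D k W).ge (pre_eq h D k W).le).2.comp
    (QCoh.unit_app_closed ((D.p k)) hF hW).1

variable {F} in
theorem uM_eq_zero_iff (hF : Coh.IsQCoh F) (k : ℕ) {W : X.Opens} (hW : IsAffineOpen W) (x : Γ(F, W)) :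
    uM h D F k W x = 0 ↔ x ∈ 𝒥.ideal ⟨W, hW⟩ ^ (k + 1) • (⊤ : Submodule Γ(X, W) Γ(F, W)) := by
  have := D.cl k
  rw [show 𝒥.ideal ⟨W, hW⟩ ^ (k + 1) = ((D.p k)).ker.ideal ⟨W, hW⟩ by
    rw [D.ker, Scheme.IdealSheafData.ideal_pow, Pi.pow_apply]]
  refine Iff.trans ?_ ((QCoh.unit_app_closed ((D.p k)) hF hW).2 x)
  exact ⟨fun hx => (bijective_map_eq ((Scheme.Modules.pullback ((D.p k))).obj F) (pre_eq h D k W).ge (pre_eq h D k W).le).1
    (hx.trans (map_zero _).symm), fun hx => (congrArg _ hx).trans (map_zero _)⟩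

theorem tr_uM (k : ℕ) (W : X.Opens) (x : Γ(F, W)) :
    tr h (cMod D F) k (cU D W) (uM h D F (k + 1) W x) = uM h D F k W x := by
  exact adjunct_res_trans (𝔛.ι k) (D.p (k + 1)) ((D.p k)) (D.comm k) F (pre_eq h D (k + 1) W).ge (𝔛.lvU_le h k (cU D W)) (pre_eq h D k W).ge x

theorem exists_cM (W : X.Opens) (x : Γ(F, W)) :
    ∃ y : Sec h (cMod D F) (cU D W), ∀ k, pr h (cMod D F) k (cU D W) y = uM h D F k W x :=
  exists_pr h _ _ _ fun k => tr_uM h D F k W x

/-- Sections of a module as formal sections. -/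
def cM (W : X.Opens) : Γ(F, W) →+ Sec h (cMod D F) (cU D W) :=
  AddMonoidHom.mk' (fun x => (exists_cM h D F W x).choose) fun x y => ext_pr h _ _ fun k => by
    rw [map_add, (exists_cM h D F W (x + y)).choose_spec, (exists_cM h D F W x).choose_spec,
      (exists_cM h D F W y).choose_spec, uM_add]

theorem pr_cM (k : ℕ) (W : X.Opens) (x : Γ(F, W)) :
    pr h (cMod D F) k (cU D W) (cM h D F W x) = uM h D F k W x :=
  (exists_cM h D F W x).choose_spec k

theorem cM_smul (W : X.Opens) (a : Γ(X, W)) (x : Γ(F, W)) :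
    cM h D F W (a • x) = toRng h D W a • cM h D F W x :=
  ext_pr h _ _ fun k => by rw [pr_cM, uM_smul, pr_smul, rproj_toRng, pr_cM]

theorem cM_res {W W' : X.Opens} (e : W' ≤ W) (x : Γ(F, W)) :
    ((cMod D F).realMod h).val.map (homOfLE (fun _ hp => e hp : cU D W' ≤ cU D W)).op (cM h D F W x) =
      cM h D F W' (F.presheaf.map (homOfLE e).op x) :=
  ext_pr h (cMod D F) (cU D W') fun k => by
    refine (pr_res h (cMod D F) k (homOfLE (fun _ hp => e hp : cU D W' ≤ cU D W)) (cM h D F W x)).trans ?_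
    refine (congrArg _ (pr_cM h D F k W x)).trans ?_
    refine Eq.trans ?_ (pr_cM h D F k W' _).symm
    exact ExistEasy.pullSec_res _ F e _ _ _ x

theorem cM_natural {G : X.Modules} (φ : F ⟶ G) (W : X.Opens) (x : Γ(F, W)) :
    (FSch.ModSys.realModMap h (cModMap D φ)).val.app (op (cU D W)) (cM h D F W x) =
      cM h D G W (φ.app W x) :=
  ext_pr h _ _ fun k => by
    rw [pr_cM]
    refine (congrArg (fun f : (cMod D F).realMod h ⟶
      (FSch.levelMor 𝔛 h k).push.obj ((cMod D G).F k) => f.val.app (op (cU D W)) (cM h D F W x))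
      (FSch.realLimMap_realProj 𝔛 h (cModMap D φ).app (FSch.ModSys.Hom.toPush_comm _) k)).trans ?_
    refine (congrArg (((Scheme.Modules.pullback ((D.p k))).map φ).app _) (pr_cM h D F k W x)).trans ?_
    exact ExistEasy.pullSec_natural ((D.p k)) φ _ x

theorem tr_σ_smul (k : ℕ) (W : X.Opens) (a : Γ(X, W))
    (x : Γ((cMod D F).F (k + 1), 𝔛.lvU h (k + 1) (cU D W))) :
    tr h (cMod D F) k (cU D W) (σ h D (k + 1) W a • x) = σ h D k W a • tr h (cMod D F) k (cU D W) x := by
  rw [← rproj_toRng, ← rproj_toRng, tr_smul]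

theorem pr_toRng_smul (k : ℕ) (W : X.Opens) (a : Γ(X, W)) (x : Sec h (cMod D F) (cU D W)) :
    pr h (cMod D F) k (cU D W) (toRng h D W a • x) = σ h D k W a • pr h (cMod D F) k (cU D W) x := by
  rw [pr_smul, rproj_toRng]

variable {F}

theorem sec_props (hF : Coh.IsQCoh F) {W : X.Opens} (hW : IsAffineOpen W) (hfg : (𝒥.ideal ⟨W, hW⟩).FG) :
    letI : Module Γ(X, W) (Sec h (cMod D F) (cU D W)) := Module.compHom _ (toRng h D W)
    IsAdicComplete (𝒥.ideal ⟨W, hW⟩) (Sec h (cMod D F) (cU D W)) ∧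
      ∀ k, Function.Surjective (pr h (cMod D F) k (cU D W)) ∧
        ∀ y, pr h (cMod D F) k (cU D W) y = 0 ↔
          y ∈ 𝒥.ideal ⟨W, hW⟩ ^ (k + 1) • (⊤ : Submodule Γ(X, W) (Sec h (cMod D F) (cU D W))) := by
  let C := Γ(X, W)
  let 𝔐 := cMod D F
  letI : Module C (Sec h 𝔐 (cU D W)) := Module.compHom _ (toRng h D W)
  letI M : ℕ → Type u := fun k => Γ(𝔐.F k, 𝔛.lvU h k (cU D W))
  letI : ∀ k, AddCommGroup (M k) := fun k => inferInstanceAs (AddCommGroup Γ(𝔐.F k, 𝔛.lvU h k (cU D W)))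
  letI : ∀ k, Module C (M k) := fun k => Module.compHom Γ(𝔐.F k, 𝔛.lvU h k (cU D W)) (σ h D k W)
  let f : ∀ k, M (k + 1) →ₗ[C] M k := fun k =>
    { toFun := tr h 𝔐 k (cU D W)
      map_add' := map_add _
      map_smul' := fun a x => tr_σ_smul h D F k W a x }
  let u : ∀ k, Γ(F, W) →ₗ[C] M k := fun k =>
    { toFun := uM h D F k W
      map_add' := uM_add h D F k W
      map_smul' := uM_smul h D F k W }
  let π : ∀ k, Sec h 𝔐 (cU D W) →ₗ[C] M k := fun k =>
    { toFun := pr h 𝔐 k (cU D W)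
      map_add' := map_add _
      map_smul' := fun a x => pr_toRng_smul h D F k W a x }
  have hu : ∀ k, Function.Surjective (u k) := fun k => uM_surjective h D hF k hW
  obtain ⟨hc, hπ, -⟩ := Adic7.limit_quotient_system C _ hfg M f
    (fun k y => by
      obtain ⟨x, hx⟩ := hu k y
      exact ⟨u (k + 1) x, (tr_uM h D F k W x).trans hx⟩)
    (fun k => by
      rw [← LinearMap.range_eq_top.mpr (hu (k + 1)), LinearMap.range_eq_map, ← Submodule.map_smul'']
      ext z
      obtain ⟨x, rfl⟩ := hu (k + 1) z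
      constructor
      · intro hz
        exact ⟨x, (uM_eq_zero_iff h D hF k hW x).mp ((tr_uM h D F k W x).symm.trans hz), rfl⟩
      · rintro ⟨y, hy, hyx⟩
        refine LinearMap.mem_ker.mpr (Eq.trans (congrArg (f k) hyx.symm) ?_)
        exact (tr_uM h D F k W y).trans ((uM_eq_zero_iff h D hF k hW y).mpr hy))
    (Sec h 𝔐 (cU D W)) π (fun k => LinearMap.ext fun x => pr_tr h 𝔐 k (cU D W) x)
    (fun x hx => ext_pr h 𝔐 _ fun k => (hx k).trans (map_zero _).symm)
    (fun y hy => exists_pr h 𝔐 _ y hy)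
  exact ⟨hc, fun k => ⟨(hπ k).1, fun y =>
    (LinearMap.mem_ker (f := π k)).symm.trans (SetLike.ext_iff.mp (hπ k).2 y)⟩⟩

/-- The images of generators generate the formal sections. -/
theorem cM_gen (hF : Coh.IsQCoh F) {W : X.Opens} (hW : IsAffineOpen W) (hfg : (𝒥.ideal ⟨W, hW⟩).FG)
    {ι : Type u} [Fintype ι] (t : ι → Γ(F, W))
    (ht : ∀ y : Γ(F, W), ∃ c : ι → Γ(X, W), ∑ i, c i • t i = y)
    (y : Sec h (cMod D F) (cU D W)) :
    ∃ c : ι → (𝔛.Osh h).obj.obj (op (cU D W)), ∑ i, c i • cM h D F W (t i) = y := by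
  classical
  let C := Γ(X, W)
  let L := (𝔛.Osh h).obj.obj (op (cU D W))
  let S := Sec h (cMod D F) (cU D W)
  let J := 𝒥.ideal ⟨W, hW⟩
  letI : Algebra C L := (toRng h D W).toAlgebra
  letI : Module C S := Module.compHom _ (toRng h D W)
  haveI : IsScalarTower C L S := IsScalarTower.of_algebraMap_smul fun _ _ => rfl
  obtain ⟨hS, hpr⟩ := sec_props h D hF hW hfg
  haveI : IsAdicComplete (J.map (algebraMap C L)) L := (rng_props h D hW hfg).1
  haveI : IsAdicComplete (J.map (algebraMap C L)) S := (IsAdicComplete.map_algebraMap_iff J S).mpr hS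
  haveI : IsPrecomplete (J.map (algebraMap C L)) (ι → L) := Adic7.isPrecomplete_of_finite _ _
  let Φ : (ι → L) →ₗ[L] S := Fintype.linearCombination L fun i => cM h D F W (t i)
  obtain ⟨c, hc⟩ := surjective_of_mkQ_comp_surjective (I := J.map (algebraMap C L)) (f := Φ) (fun q => by
    obtain ⟨z, rfl⟩ := Submodule.mkQ_surjective _ q
    obtain ⟨x, hx⟩ := uM_surjective h D hF 0 hW (pr h (cMod D F) 0 (cU D W) z)
    obtain ⟨c, rfl⟩ := ht x
    refine ⟨fun i => algebraMap C L (c i), ((Submodule.Quotient.eq _).mpr ?_).symm⟩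
    refine (mem_map_smul_top J _).mpr ?_
    rw [← pow_one J, ← (hpr 0).2]
    rw [show Φ (fun i => algebraMap C L (c i)) = cM h D F W (∑ i, c i • t i) by
      rw [Fintype.linearCombination_apply, map_sum]
      exact Finset.sum_congr rfl fun i _ => (cM_smul h D F W (c i) (t i)).symm,
      map_sub, pr_cM, hx, sub_self]) y
  exact ⟨c, (Fintype.linearCombination_apply _ _ _).symm.trans hc⟩

end Groth.Agent.FRig
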