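import Groth.Agent.FRig.LevelPres
import Groth.Agent.Frg7.Trunc
import Groth.Agent.Frg7.Local
import Groth.Agent.FModLib.LevelSys

/-!
# A finitely presented module on a rigid formal spectrum is the limit of its levels
-/

set_option backward.isDefEq.respectTransparency false
set_option backward.isDefEq.respectTransparency.types false
set_option linter.style.haveILetI false

universe u

open CategoryTheory CategoryTheory.Limits AlgebraicGeometry TopologicalSpace Opposite

noncomputable section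

namespace Groth.Agent.FRig

open FModLib

variable {R : Type u} [CommRing R] {I : Ideal R} {A : Type u} [CommRing A] [Algebra R A]
  (hR : AdicRing.IsBase R I) (hA : AdicRing.TopFiniteType R I A)

local notation "XA" => Spec (CommRingCat.of A)
local notation "𝒥A" => FSch.idealSpec A (I.map (algebraMap R A))

variable {𝔛 : FSch.Sys.{u}} (h : 𝔛.IsFormal) (D : CData (FSch.idealSpec A (I.map (algebraMap R A))) 𝔛)

/-- The ring of formal functions on the trace of an affine open. -/
abbrev FRng (W : (XA).Opens) : Type u := (𝔛.Osh h).obj.obj (op (cU D W))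

/-- The kernel of the reduction. -/
abbrev KR (W : (XA).Opens) : Ideal (FRng h D W) := RingHom.ker (rproj h 0 (cU D W))

include hR in
theorem rng_kernel {W : (XA).Opens} (hW : IsAffineOpen W) :
    IsAdicComplete (KR h D W) (FRng h D W) ∧
      (∀ k, RingHom.ker (rproj h k (cU D W)) = KR h D W ^ (k + 1)) ∧
      ((toRng h D W).comp (ρ W)).comp (algebraMap R A) = (toRng h D W).comp ((ρ W).comp (algebraMap R A)) ∧
      I.map (((toRng h D W).comp (ρ W)).comp (algebraMap R A)) = KR h D W := by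
  obtain ⟨hc, hp⟩ := rng_props h D hW (fg_ideal _ ((Frg7.IsBase.fg hR).map _) hW)
  have e : KR h D W = ((𝒥A).ideal ⟨W, hW⟩).map (toRng h D W) := by
    rw [KR, (hp 0).2, zero_add, pow_one]
  refine ⟨e.symm ▸ hc, fun k => ?_, rfl, ?_⟩
  · rw [(hp k).2, e]
  · rw [e, ideal_eq _ hW, Ideal.map_map, Ideal.map_map]

include hR hA in
theorem rng_topFiniteType {W : (XA).Opens} (hW : IsAffineOpen W) :
    letI : Algebra R (FRng h D W) := (((toRng h D W).comp (ρ W)).comp (algebraMap R A)).toAlgebra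
    AdicRing.TopFiniteType R I (FRng h D W) := by
  let φ : A →+* FRng h D W := (toRng h D W).comp (ρ W)
  letI : Algebra R (FRng h D W) := (φ.comp (algebraMap R A)).toAlgebra
  obtain ⟨hc, -, -, hI⟩ := rng_kernel hR h D hW
  haveI : IsAdicComplete (I.map (algebraMap R (FRng h D W))) (FRng h D W) := hI.symm ▸ hc
  let Q := FRng h D W ⧸ I.map (algebraMap R (FRng h D W))
  let J := I.map (algebraMap R A)
  let q : FRng h D W →+* Q := Ideal.Quotient.mk _
  have hle : J ≤ Ideal.comap φ (I.map (algebraMap R (FRng h D W))) := by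
    rw [← Ideal.map_le_iff_le_comap, Ideal.map_map]
    exact le_rfl
  -- the truncated functions of `W` surject onto `Q`
  have hsurj : Function.Surjective (q.comp (toRng h D W)) := by
    intro y
    obtain ⟨x, rfl⟩ := Ideal.Quotient.mk_surjective y
    obtain ⟨a, ha⟩ := σ_surjective h D 0 hW (rproj h 0 (cU D W) x)
    refine ⟨a, Ideal.Quotient.eq.mpr ?_⟩
    show _ ∈ I.map (((toRng h D W).comp (ρ W)).comp (algebraMap R A))
    rw [hI, RingHom.sub_mem_ker_iff, rproj_toRng, ha]
  have h1 : (q.comp φ).FiniteType :=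
    (RingHom.FiniteType.of_surjective _ hsurj).comp (finiteType_ρ hW)
  let ψ : A ⧸ J →+* Q := Ideal.quotientMap _ φ hle
  have h2 : ψ.FiniteType := RingHom.FiniteType.of_comp_finiteType (f := Ideal.Quotient.mk J)
    (show (ψ.comp (Ideal.Quotient.mk J)).FiniteType from h1)
  haveI := Frg7.finiteType_trunc (Frg7.IsBase.fg hR) hA 1
  have h3 : (algebraMap R (A ⧸ J)).FiniteType := by
    have h4 := RingHom.finiteType_algebraMap.mpr (Frg7.finiteType_trunc (Frg7.IsBase.fg hR) hA 1)
    rwa [pow_one] at h4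
  haveI : Algebra.FiniteType R Q := RingHom.finiteType_algebraMap.mp (h2.comp h3)
  exact Frg7.topFiniteType_of_finiteType hR

include hR hA in
/-- Submodules of finite free modules over the formal functions are closed. -/
theorem mem_of_forall_mem_sup' {W : (XA).Opens} (hW : IsAffineOpen W) {ι : Type u} [Fintype ι]
    (N : Submodule (FRng h D W) (ι → FRng h D W)) (x : ι → FRng h D W)
    (hx : ∀ k : ℕ, x ∈ N ⊔ KR h D W ^ (k + 1) • (⊤ : Submodule (FRng h D W) (ι → FRng h D W))) : x ∈ N := by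
  letI : Algebra R (FRng h D W) := (((toRng h D W).comp (ρ W)).comp (algebraMap R A)).toAlgebra
  obtain ⟨-, -, -, hI⟩ := rng_kernel hR h D hW
  let M := (ι → FRng h D W) ⧸ N
  letI : Module R M := Module.compHom M (algebraMap R (FRng h D W))
  haveI : IsScalarTower R (FRng h D W) M := IsScalarTower.of_algebraMap_smul fun _ _ => rfl
  haveI hc := Frg7.isAdicComplete hR (rng_topFiniteType hR hA h D hW) M
  haveI : IsHausdorff (KR h D W) M := hI ▸ ((IsAdicComplete.map_algebraMap_iff I M).mpr hc).toIsHausdorff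
  refine (Submodule.Quotient.mk_eq_zero N).mp (IsHausdorff.haus' (I := KR h D W) _ fun k => SModEq.zero.mpr ?_)
  obtain ⟨a, ha, b, hb, rfl⟩ := Submodule.mem_sup.mp (hx k)
  rw [Submodule.Quotient.mk_add, (Submodule.Quotient.mk_eq_zero N).mpr ha, zero_add]
  have := Submodule.mem_map_of_mem (f := N.mkQ) hb
  rw [Submodule.map_smul''] at this
  exact Submodule.smul_mono (Ideal.pow_le_pow_right (Nat.le_succ k)) le_top this

variable (𝔉 : FSch.ModF 𝔛 h)

omit D in
theorem tr_smul_level (𝔐 : FSch.ModSys 𝔛) (k : ℕ) {U : (𝔛.X 0).Opens} (hU : IsAffineOpen U)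
    (r : Γ(𝔛.X (k + 1), 𝔛.lvU h (k + 1) U)) (x : Γ(𝔐.F (k + 1), 𝔛.lvU h (k + 1) U)) :
    tr h 𝔐 k U (r • x) = rtr h k U r • tr h 𝔐 k U x := by
  obtain ⟨a, rfl⟩ := surjective_rproj h (k + 1) hU r
  rw [tr_smul, rproj_rtr]

include hR hA in
/-- The comparison on a basic open with a presentation. -/
theorem toReal_basic {W : (XA).Opens} (hW : IsAffineOpen W) {n m : ℕ}
    {t : ULift.{u} (Fin n) → ModSite.sect (O := 𝔛.Osh h) 𝔉 (cU D W)}
    {g : ULift.{u} (Fin m) → ULift.{u} (Fin n) → FRng h D W} (hP : IsPres (O := 𝔛.Osh h) 𝔉 (cU D W) t g) :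
    (∀ y : Sec h (levSys h 𝔉) (cU D W), ∃ c : ULift.{u} (Fin n) → FRng h D W,
      ∑ i, c i • (show Sec h (levSys h 𝔉) (cU D W) from (toReal h 𝔉).val.app (op (cU D W)) (t i)) = y) ∧
    ∀ c : ULift.{u} (Fin n) → FRng h D W,
      ∑ i, c i • (show Sec h (levSys h 𝔉) (cU D W) from (toReal h 𝔉).val.app (op (cU D W)) (t i)) = 0 →
        ∃ d : ULift.{u} (Fin m) → FRng h D W, ∀ i, ∑ j, d j * g j i = c i := by
  classical
  have := D.cl 0
  have hV : IsAffineOpen (cU D W) := hW.preimage (D.p 0)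
  obtain ⟨-, hK, -, -⟩ := rng_kernel hR h D hW
  let V := cU D W
  let T : ULift.{u} (Fin n) → Sec h (levSys h 𝔉) V := fun i => (toReal h 𝔉).val.app (op V) (t i)
  let L : ∀ k, (ULift.{u} (Fin n) → Γ(𝔛.X k, 𝔛.lvU h k V)) → Γ(lev h k 𝔉, 𝔛.lvU h k V) :=
    fun k c => ∑ i, c i • toLev h k 𝔉 V (t i)
  have hT : ∀ k (c : ULift.{u} (Fin n) → FRng h D W),
      pr h (levSys h 𝔉) k V (∑ i, c i • T i) = L k fun i => rproj h k V (c i) := fun k c => by
    rw [map_sum]
    refine Finset.sum_congr rfl fun i _ => (pr_smul h (levSys h 𝔉) k V (c i) (T i)).trans ?_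
    exact congrArg (fun z : Γ(lev h k 𝔉, 𝔛.lvU h k V) => rproj h k V (c i) • z) (pr_toReal h 𝔉 k V (t i))
  have htr : ∀ k (c : ULift.{u} (Fin n) → Γ(𝔛.X (k + 1), 𝔛.lvU h (k + 1) V)),
      tr h (levSys h 𝔉) k V (L (k + 1) c) = L k fun i => rtr h k V (c i) := by
    intro k c
    refine (map_sum (tr h (levSys h 𝔉) k V) _ _).trans (Finset.sum_congr rfl fun i _ => ?_)
    refine (tr_smul_level h (levSys h 𝔉) k hV (c i) _).trans (congrArg (rtr h k V (c i) • ·) ?_)
    refine Eq.trans (congrArg (tr h (levSys h 𝔉) k V) (pr_toReal h 𝔉 (k + 1) V (t i)).symm) ?_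
    exact (pr_tr h (levSys h 𝔉) k V _).trans (pr_toReal h 𝔉 k V (t i))
  have hP' := fun k => FRig.levelPres h k 𝔉 hP hV
  have hrel0 : ∀ k j, L k (fun i => rproj h k V (g j i)) = 0 := fun k j => by
    show ∑ i, rproj h k V (g j i) • toLev h k 𝔉 V (t i) = 0
    rw [← toLev_sum_smul, hP.rel0 j, map_zero]
  have hLadd : ∀ k c c', L k (c + c') = L k c + L k c' := fun k c c' => by
    simp only [L, Pi.add_apply, add_smul, Finset.sum_add_distrib]
  refine ⟨fun y => ?_, fun c hc => ?_⟩
  · let P := fun k => {c : ULift.{u} (Fin n) → Γ(𝔛.X k, 𝔛.lvU h k V) // L k c = pr h (levSys h 𝔉) k V y}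
    have h0 : Nonempty (P 0) := ⟨⟨_, ((hP' 0).2.1 _).choose_spec⟩⟩
    have hstep : ∀ k (c : P k), ∃ c' : P (k + 1), ∀ i, rtr h k V (c'.1 i) = c.1 i := by
      rintro k ⟨c, hc⟩
      obtain ⟨b, hb⟩ := (hP' (k + 1)).2.1 (pr h (levSys h 𝔉) (k + 1) V y)
      have hb' : L k (fun i => rtr h k V (b i)) = L k c := by
        rw [← htr, hc]
        exact (congrArg (tr h (levSys h 𝔉) k V) hb).trans (pr_tr h (levSys h 𝔉) k V y)
      obtain ⟨d, hd⟩ := (hP' k).2.2 (fun i => rtr h k V (b i) - c i) (by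
        simp only [sub_smul, Finset.sum_sub_distrib]
        exact sub_eq_zero.mpr hb')
      choose d' hd' using fun j => surjective_rproj h k hV (d j)
      refine ⟨⟨b + fun i => -∑ j, rproj h (k + 1) V (d' j * g j i), ?_⟩, fun i => ?_⟩
      · have hz : L (k + 1) (fun i => -∑ j, rproj h (k + 1) V (d' j * g j i)) = 0 := by
          simp only [L, neg_smul, Finset.sum_neg_distrib, neg_eq_zero, map_mul, Finset.sum_smul, mul_smul]
          rw [Finset.sum_comm]
          refine Finset.sum_eq_zero fun j _ => ?_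
          rw [← Finset.smul_sum]
          exact (congrArg (rproj h (k + 1) V (d' j) • ·) (hrel0 (k + 1) j)).trans (smul_zero _)
        rw [hLadd, hz, add_zero]
        exact hb
      · simp only [Pi.add_apply, map_add, map_neg, map_sum, rproj_rtr, map_mul, hd']
        rw [show ∑ j, rproj h k V (d' j) * rproj h k V (g j i) = rtr h k V (b i) - c i from
          (Finset.sum_congr rfl fun j _ => congrArg (· * rproj h k V (g j i)) (hd' j)).trans (hd i)]
        abel
    choose step hstep using hstep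
    let c : ∀ k, P k := fun k => Nat.rec h0.some (fun k ck => step k ck) k
    choose C hC using fun i => exists_rproj h V (fun k => (c k).1 i) fun k => hstep k (c k) i
    refine ⟨C, ext_pr h _ _ fun k => ?_⟩
    refine (hT k C).trans ?_
    simp only [hC]
    exact (c k).2
  · have hmem : c ∈ Submodule.span (FRng h D W) (Set.range g) := by
      refine mem_of_forall_mem_sup' hR hA h D hW _ c fun k => ?_
      obtain ⟨d, hd⟩ := (hP' k).2.2 (fun i => rproj h k V (c i))
        ((hT k c).symm.trans ((congrArg (pr h (levSys h 𝔉) k V) hc).trans (map_zero _)))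
      choose d' hd' using fun j => surjective_rproj h k hV (d j)
      refine Submodule.mem_sup.mpr ⟨∑ j, d' j • g j,
        Submodule.sum_mem _ fun j _ => Submodule.smul_mem _ _ (Submodule.subset_span ⟨j, rfl⟩),
        c - ∑ j, d' j • g j, ?_, add_sub_cancel _ _⟩
      rw [pi_eq_sum_univ' (c - ∑ j, d' j • g j)]
      refine Submodule.sum_mem _ fun i _ => Submodule.smul_mem_smul ?_ Submodule.mem_top
      rw [← hK k, RingHom.mem_ker, Pi.sub_apply, map_sub, Finset.sum_apply, map_sum]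
      simp only [Pi.smul_apply, smul_eq_mul, map_mul, hd']
      exact sub_eq_zero.mpr (hd i).symm
    obtain ⟨d, hd⟩ := (Submodule.mem_span_range_iff_exists_fun _).mp hmem
    exact ⟨d, fun i => by rw [← hd, Finset.sum_apply]; rfl⟩

include hR hA D in
/-- A finitely presented module is the limit of its levels. -/
theorem isIso_toReal (h𝔉 : FSch.IsCohF 𝔛 h 𝔉) : IsIso (toReal h 𝔉) := by
  let η := toReal h 𝔉
  have hB : ∀ {U : (𝔛.X 0).Opens} {x : 𝔛.X 0}, x ∈ U → ∃ V ∈ basSet D, x ∈ V ∧ V ≤ U := fun hx =>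
    Opens.isBasis_iff_nbhd.1 (isBasis_basSet D) hx
  haveI : Mono η := by
    refine Preadditive.mono_of_cancel_zero _ fun {P} φ hφ => ?_
    apply SheafOfModules.hom_ext
    refine PresheafOfModules.hom_ext fun W => ModuleCat.hom_ext (LinearMap.ext fun z => ?_)
    show (φ.val.app W z : ModSite.sect (O := 𝔛.Osh h) 𝔉 W.unop) = 0
    have hs : η.val.app W (φ.val.app W z) = 0 := congrArg (fun f => f.val.app W z) hφ
    generalize φ.val.app W z = s at hs
    refine eq_of_locally (O := 𝔛.Osh h) 𝔉 fun x hx => ?_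
    obtain ⟨U, n, m, t, g, hxU, hP⟩ := exists_isPres (O := 𝔛.Osh h) h𝔉 x
    obtain ⟨V₀, e₀, hxV₀, c, hc⟩ := (hP.mono (inf_le_right : W.unop ⊓ U ≤ U)).gen (W.unop ⊓ U) le_rfl
      (mres 𝔉 inf_le_left s) x ⟨hx, hxU⟩
    obtain ⟨_, ⟨r, rfl⟩, hxV, e⟩ := hB (U := V₀) hxV₀
    let e' : cU D (bas r) ≤ U := e.trans (e₀.trans inf_le_right)
    let eW : cU D (bas r) ≤ W.unop := e.trans (e₀.trans inf_le_left)
    refine ⟨_, eW, hxV, ?_⟩
    rw [show mres 𝔉 eW (0 : ModSite.sect (O := 𝔛.Osh h) 𝔉 W.unop) = 0 from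
      map_zero (𝔉.val.map (homOfLE eW).op).hom]
    have h1 : mres 𝔉 eW s = ∑ i, ores (𝔛.Osh h) e (c i) • mres 𝔉 e' (t i) := by
      have := congrArg (mres 𝔉 e) hc
      rw [mres_sum_smul] at this
      simp only [mres_mres] at this
      exact this.symm
    have h2 : η.val.app (op (cU D (bas r))) (mres 𝔉 eW s) = 0 := by
      rw [mapp_res 𝔉 η eW s]
      exact (congrArg (mres _ eW) hs).trans (map_zero (((levSys h 𝔉).realMod h).val.map (homOfLE eW).op).hom)
    rw [h1] at h2 ⊢
    obtain ⟨d, hd⟩ := (toReal_basic hR hA h D 𝔉 (isAffineOpen_bas r) (hP.mono e')).2 _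
      ((mapp_sum_smul 𝔉 η _ _).symm.trans h2)
    simp only [← hd]
    exact sum_kill e' d hP.rel0
  haveI : Epi η := by
    refine FModLib.epi_of_locally (O := 𝔛.Osh h) η fun W y => ?_
    refine ⟨{ arrows := fun W' _ => ∃ r, W' ≤ cU D (bas r) ∧ cU D (bas r) ≤ W ∧ ∃ (n m : ℕ)
                (t : ULift.{u} (Fin n) → ModSite.sect (O := 𝔛.Osh h) 𝔉 (cU D (bas r)))
                (g : ULift.{u} (Fin m) → ULift.{u} (Fin n) → FRng h D (bas r)),
                  IsPres (O := 𝔛.Osh h) 𝔉 (cU D (bas r)) t g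
              downward_closed := fun ⟨r, h1, h2⟩ a => ⟨r, a.le.trans h1, h2⟩ }, ?_, ?_⟩
    · intro x hx
      obtain ⟨U, n, m, t, g, hxU, hP⟩ := exists_isPres (O := 𝔛.Osh h) h𝔉 x
      obtain ⟨_, ⟨r, rfl⟩, hxV, e⟩ := hB (U := W ⊓ U) ⟨hx, hxU⟩
      exact ⟨_, homOfLE (e.trans inf_le_left),
        ⟨r, le_rfl, e.trans inf_le_left, n, m, _, _, hP.mono (e.trans inf_le_right)⟩, hxV⟩
    · rintro W' a ⟨r, h1, h2, n, m, t, g, hP⟩
      obtain ⟨c, hc⟩ := (toReal_basic hR hA h D 𝔉 (isAffineOpen_bas r) hP).1 (mres _ h2 y)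
      refine ⟨mres 𝔉 h1 (∑ i, c i • t i), ?_⟩
      rw [mapp_res 𝔉 η h1, mapp_sum_smul, show ∑ i, c i • (show ModSite.sect _ (cU D (bas r)) from η.val.app (op (cU D (bas r))) (t i)) =
        mres _ h2 y from hc, mres_mres]
      rfl
  exact isIso_of_mono_of_epi η

end Groth.Agent.FRig
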